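import Mathlib

/-!
Paths of involutions: the exchange of the ends of a path of three, the braid relation of two consecutive
exchanges, and a conjugacy class with conjugation as a graph on commuting.
-/

set_option autoImplicit false

namespace Cfsg.Agent.H41.Fi24Rec

section Swap

variable {G : Type*} [Group G]

/-- three involutions, the ends commuting, braiding with the middle one -/
structure Path3 (p q r : G) : Prop where
  pp : p * p = 1
  qq : q * q = 1
  rr : r * r = 1
  pr : Commute p r
  pq : p * q * p = q * p * q
  qr : q * r * q = r * q * r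

/-- the exchange of the ends -/
def swp (p q r : G) : G := q * (p * r) * q

theorem swp_map {H : Type*} [Group H] (f : G →* H) (p q r : G) :
    f (swp p q r) = swp (f p) (f q) (f r) := by
  simp [swp]

theorem swp_commute {p q r x : G} (hp : Commute p x) (hq : Commute q x) (hr : Commute r x) :
    Commute (swp p q r) x :=
  (hq.mul_left (hp.mul_left hr)).mul_left hq

theorem Path3.symm {p q r : G} (h : Path3 p q r) : Path3 r q p :=
  ⟨h.rr, h.qq, h.pp, h.pr.symm, h.qr.symm, h.pq.symm⟩

theorem Path3.swp_symm {p q r : G} (h : Path3 p q r) : swp r q p = swp p q r := by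
  rw [swp, swp, h.pr.eq]

theorem Path3.sq {p q r : G} (h : Path3 p q r) : swp p q r * swp p q r = 1 := by
  have e : p * r * (p * r) = 1 := by
    rw [← mul_assoc, mul_assoc p r p, ← h.pr.eq, ← mul_assoc, h.pp, one_mul, h.rr]
  calc swp p q r * swp p q r = q * (p * r) * (q * q) * (p * r) * q := by rw [swp]; group
    _ = q * (p * r * (p * r)) * q := by rw [h.qq, mul_one]; group
    _ = 1 := by rw [e, mul_one, h.qq]

theorem Path3.left {p q r : G} (h : Path3 p q r) : swp p q r * p * swp p q r = r := by
  calc swp p q r * p * swp p q r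
      = q * (r * p) * (q * p * q) * (r * p) * q := by
        rw [swp, h.pr.eq]; group
    _ = q * r * ((p * p) * q * (p * (r * p))) * q := by rw [← h.pq]; group
    _ = q * r * (q * r) * q := by
        rw [h.pp, one_mul, ← h.pr.eq, ← mul_assoc p p r, h.pp, one_mul]
    _ = q * (r * q * r) * q := by group
    _ = (q * q) * r * (q * q) := by rw [← h.qr]; group
    _ = r := by rw [h.qq, one_mul, mul_one]

theorem Path3.right {p q r : G} (h : Path3 p q r) : swp p q r * r * swp p q r = p := by
  rw [← h.swp_symm]; exact h.symm.left

/-- two consecutive exchanges braid -/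
theorem swp_braid {p q r u v : G} (h : Path3 p q r) (h' : Path3 r u v) (qu : Commute q u)
    (qv : Commute q v) (pu : Commute p u) (pv : Commute p v) :
    swp p q r * swp r u v * swp p q r = swp r u v * swp p q r * swp r u v := by
  set s := swp p q r with hs
  set t := swp r u v with ht
  have hsv : s * v * s = v := by
    rw [(swp_commute pv qv h'.pr).eq, mul_assoc, h.sq, mul_one]
  have htp : t * p * t = p := by
    rw [(swp_commute h.pr.symm pu.symm pv.symm).eq, mul_assoc, h'.sq, mul_one]
  have hsu : s * u * s = q * r * u * r * q := by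
    calc s * u * s = q * (p * r) * (q * u * q) * (p * r) * q := by rw [hs, swp]; group
      _ = q * p * (r * u) * (p * r) * q := by rw [qu.eq, mul_assoc u q q, h.qq, mul_one]; group
      _ = q * p * (r * u * p) * r * q := by group
      _ = q * p * (p * (r * u)) * r * q := by rw [← (h.pr.mul_right pu).eq]
      _ = q * (p * p) * (r * u) * r * q := by group
      _ = _ := by rw [h.pp, mul_one]; group
  have htq : t * q * t = u * r * q * r * u := by
    calc t * q * t = u * (r * v) * (u * q * u) * (r * v) * u := by rw [ht, swp]; group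
      _ = u * r * (v * q) * (r * v) * u := by rw [← qu.eq, mul_assoc q u u, h'.qq, mul_one]; group
      _ = u * r * q * (v * (r * v)) * u := by rw [← qv.eq]; group
      _ = _ := by rw [h'.pr.eq, ← mul_assoc v v r, h'.rr, one_mul]
  have key : q * r * u * r * q = u * r * q * r * u := by
    calc q * r * u * r * q = q * (u * r * u) * q := by rw [← h'.pq]; group
      _ = (q * u) * r * (u * q) := by group
      _ = (u * q) * r * (q * u) := by rw [qu.eq]
      _ = u * (q * r * q) * u := by group
      _ = _ := by rw [h.qr]; group
  have c1 : s * t * s = swp (s * r * s) (s * u * s) (s * v * s) := by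
    have hi : s⁻¹ = s := inv_eq_of_mul_eq_one_left h.sq
    have := swp_map (MulAut.conj s).toMonoidHom r u v
    simpa [hi] using this
  have c2 : t * s * t = swp (t * p * t) (t * q * t) (t * r * t) := by
    have hi : t⁻¹ = t := inv_eq_of_mul_eq_one_left h'.sq
    have := swp_map (MulAut.conj t).toMonoidHom p q r
    simpa [hi] using this
  rw [c1, c2, h.right, hsu, hsv, htp, htq, h'.left, key]

end Swap

section Class

variable {G : Type*} [Group G]

/-- the members of a class -/
def Mem (x : G) : Type _ := {y : G // y ∈ conjugatesOf x}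

instance (x : G) : MulAction G (Mem x) where
  smul g y := ⟨g * y.1 * g⁻¹, IsConj.trans y.2 (isConj_iff.2 ⟨g, rfl⟩)⟩
  one_smul y := Subtype.ext (show 1 * y.1 * 1⁻¹ = y.1 by group)
  mul_smul g h y := Subtype.ext (show g * h * y.1 * (g * h)⁻¹ = g * (h * y.1 * h⁻¹) * g⁻¹ by group)

/-- different and commuting -/
def madj {x : G} (u v : Mem x) : Prop := v.1 ≠ u.1 ∧ Commute u.1 v.1

theorem smul_val {x : G} (g : G) (y : Mem x) : (g • y).1 = g * y.1 * g⁻¹ := rfl

theorem madj_symm {x : G} (u v : Mem x) (h : madj u v) : madj v u := ⟨h.1.symm, h.2.symm⟩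

theorem madj_irr {x : G} (v : Mem x) : ¬ madj v v := fun h => h.1 rfl

theorem madj_inv {x : G} (g : G) (u v : Mem x) (h : madj u v) : madj (g • u) (g • v) :=
  ⟨fun e => h.1 (mul_left_cancel (mul_right_cancel e)), h.2.map (MulAut.conj g).toMonoidHom⟩

theorem smul_eq_iff {x : G} (g : G) (y : Mem x) : g • y = y ↔ Commute g y.1 :=
  Subtype.ext_iff.trans mul_inv_eq_iff_eq_mul

theorem smul_eq_of {x : G} {g : G} {y w : Mem x} (h : g * y.1 * g⁻¹ = w.1) : g • y = w := Subtype.ext h

end Class

end Cfsg.Agent.H41.Fi24Rec
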