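import Mathlib

/-!
An amalgam over a point stabiliser of a graph with involution on an edge and one triangle relation: inside
the product of the group of the graph with the target, the subgroup generated covers the graph; when the
cover is trivial the map extends to the whole group.
-/

set_option autoImplicit false

namespace Cfsg.Agent.H41.Fi24Rec

open MulAction

variable {M G V : Type*} [Group M] [Group G] [MulAction M V]

/-- the amalgam of the stabiliser of `a` and an involution on the edge `a b` -/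
structure Amalg (adj : V → V → Prop) (a b c : V) (θ : ↥(stabilizer M a) →* G) (σ : M) (s : G)
    (π : ↥(stabilizer M a)) : Prop where
  inv : ∀ (g : M) (v w : V), adj v w → adj (g • v) (g • w)
  symm : ∀ v w, adj v w → adj w v
  irr : ∀ v, ¬ adj v v
  ab : adj a b
  σa : σ • a = b
  σσ : σ * σ = 1
  ss : s * s = 1
  compat : ∀ x : ↥(stabilizer M a), (x : M) • b = b →
    ∀ y : ↥(stabilizer M a), (y : M) = σ * x * σ → θ y = s * θ x * s
  trans_nb : ∀ v, adj a v → ∃ x : ↥(stabilizer M a), (x : M) • b = v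
  trans_tri : ∀ v, adj a v → adj b v → ∃ x : ↥(stabilizer M a), (x : M) • b = b ∧ (x : M) • c = v
  σc : σ • c = c
  πb : (π : M) • b = c
  braid : σ * π * σ = (π : M) * σ * π
  sbraid : s * θ π * s = θ π * s * θ π

/-- a vertex at distance two or more from the base -/
def IsFar (adj : V → V → Prop) (a v : V) : Prop := v ≠ a ∧ ¬ adj a v

/-- common neighbours of the base and a vertex -/
def Comn (adj : V → V → Prop) (a z y : V) : Prop := adj a y ∧ adj y z

/-- connected inside the common neighbours -/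
def Reach (adj : V → V → Prop) (a z : V) : V → V → Prop :=
  Relation.ReflTransGen (fun p q => adj p q ∧ Comn adj a z q)

namespace Amalg

variable {adj : V → V → Prop} {a b c : V} {θ : ↥(stabilizer M a) →* G} {σ : M} {s : G}
  {π : ↥(stabilizer M a)}

/-- the pairs over the base -/
def R (_h : Amalg adj a b c θ σ s π) : Subgroup (M × G) := ((stabilizer M a).subtype.prod θ).range

/-- the subgroup generated -/
def S (h : Amalg adj a b c θ σ s π) : Subgroup (M × G) :=
  Subgroup.closure ((h.R : Set (M × G)) ∪ {(σ, s)})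

/-- the same lifted vertex -/
def Same (h : Amalg adj a b c θ σ s π) (g g' : M × G) : Prop := g⁻¹ * g' ∈ h.R

/-- adjacent lifted vertices -/
def Adj (h : Amalg adj a b c θ σ s π) (g g' : M × G) : Prop := ∃ r ∈ h.R, h.Same (g * r * (σ, s)) g'

variable (h : Amalg adj a b c θ σ s π)

include h

theorem mem_R {g : M × G} : g ∈ h.R ↔ ∃ x : ↥(stabilizer M a), ((x : M), θ x) = g := Iff.rfl

theorem gr_mem (x : ↥(stabilizer M a)) : ((x : M), θ x) ∈ h.R := ⟨x, rfl⟩

theorem R_le : h.R ≤ h.S := fun _ hx => Subgroup.subset_closure (Or.inl hx)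

theorem σ_mem : (σ, s) ∈ h.S := Subgroup.subset_closure (Or.inr rfl)

theorem R_fix {g : M × G} (hg : g ∈ h.R) : g.1 • a = a := by
  obtain ⟨x, rfl⟩ := h.mem_R.1 hg
  exact x.2

theorem hat_sq : (σ, s) * (σ, s) = (1 : M × G) := Prod.ext h.σσ h.ss

theorem hat_inv : ((σ, s) : M × G)⁻¹ = (σ, s) := inv_eq_of_mul_eq_one_right h.hat_sq

theorem σb : σ • b = a := by rw [← h.σa, ← mul_smul, h.σσ, one_smul]

theorem same_refl (g : M × G) : h.Same g g := by
  show g⁻¹ * g ∈ h.R
  rw [inv_mul_cancel]; exact one_mem _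

theorem same_symm {g g' : M × G} (e : h.Same g g') : h.Same g' g := by
  show g'⁻¹ * g ∈ h.R
  have := inv_mem e
  rwa [mul_inv_rev, inv_inv] at this

theorem same_trans {g g' g'' : M × G} (e : h.Same g g') (e' : h.Same g' g'') : h.Same g g'' := by
  show g⁻¹ * g'' ∈ h.R
  have := mul_mem e e'
  rwa [show g⁻¹ * g' * (g'⁻¹ * g'') = g⁻¹ * g'' by group] at this

theorem same_smul {g g' : M × G} (e : h.Same g g') : g'.1 • a = g.1 • a := by
  have h1 := h.R_fix e
  rw [Prod.fst_mul, Prod.fst_inv, mul_smul, inv_smul_eq_iff] at h1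
  exact h1

theorem same_left (u : M × G) {g g' : M × G} (e : h.Same g g') : h.Same (u * g) (u * g') := by
  show (u * g)⁻¹ * (u * g') ∈ h.R
  rwa [show (u * g)⁻¹ * (u * g') = g⁻¹ * g' by group]

theorem same_mem {g g' : M × G} (e : h.Same g g') (hg : g ∈ h.S) : g' ∈ h.S := by
  have := mul_mem hg (h.R_le e)
  rwa [mul_inv_cancel_left] at this

/-- the edge group is normalised by the involution -/
theorem swap_mem {r : M × G} (hr : r ∈ h.R) (hb : r.1 • b = b) : (σ, s) * r * (σ, s) ∈ h.R := by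
  obtain ⟨x, rfl⟩ := h.mem_R.1 hr
  have hy : σ * x * σ ∈ stabilizer M a := by
    rw [mem_stabilizer_iff, mul_smul, mul_smul, h.σa]
    exact (congrArg (σ • ·) hb).trans h.σb
  exact h.mem_R.2 ⟨⟨_, hy⟩, Prod.ext rfl (h.compat x hb ⟨_, hy⟩ rfl)⟩

theorem adj_congr {g g' u u' : M × G} (e : h.Adj g u) (hg : h.Same g g') (hu : h.Same u u') :
    h.Adj g' u' := by
  obtain ⟨r, hr, he⟩ := e
  refine ⟨g'⁻¹ * g * r, mul_mem (h.same_symm hg) hr, ?_⟩
  rw [show g' * (g'⁻¹ * g * r) = g * r by group]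
  exact h.same_trans he hu

theorem adj_left (w : M × G) {g u : M × G} (e : h.Adj g u) : h.Adj (w * g) (w * u) := by
  obtain ⟨r, hr, he⟩ := e
  refine ⟨r, hr, ?_⟩
  have := h.same_left w he
  rwa [← mul_assoc, ← mul_assoc] at this

theorem adj_base (g : M × G) : h.Adj g (g * (σ, s)) :=
  ⟨1, one_mem _, by rw [mul_one]; exact h.same_refl _⟩

theorem adj_symm {g u : M × G} (e : h.Adj g u) : h.Adj u g := by
  obtain ⟨r, hr, he⟩ := e
  have h1 := h.adj_base (g * r * (σ, s))
  rw [mul_assoc _ ((σ, s) : M × G), h.hat_sq, mul_one] at h1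
  refine h.adj_congr h1 he ?_
  show (g * r)⁻¹ * g ∈ h.R
  rw [mul_inv_rev, mul_assoc, inv_mul_cancel, mul_one]
  exact inv_mem hr

theorem adj_mem {g u : M × G} (e : h.Adj g u) (hg : g ∈ h.S) : u ∈ h.S := by
  obtain ⟨r, hr, he⟩ := e
  exact h.same_mem he (mul_mem (mul_mem hg (h.R_le hr)) h.σ_mem)

theorem adj_vert {g u : M × G} (e : h.Adj g u) : adj (g.1 • a) (u.1 • a) := by
  obtain ⟨r, hr, he⟩ := e
  rw [h.same_smul he, Prod.fst_mul, Prod.fst_mul, mul_smul, mul_smul, h.σa]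
  refine h.inv g.1 _ _ ?_
  have := h.inv r.1 _ _ h.ab
  rwa [h.R_fix hr] at this

/-- a neighbour lifts -/
theorem lift (g : M × G) {v : V} (hv : adj (g.1 • a) v) : ∃ u, h.Adj g u ∧ u.1 • a = v := by
  have h1 := h.inv g.1⁻¹ _ _ hv
  rw [inv_smul_smul] at h1
  obtain ⟨x, hx⟩ := h.trans_nb _ h1
  refine ⟨g * ((x : M), θ x) * (σ, s), ⟨_, h.gr_mem x, h.same_refl _⟩, ?_⟩
  rw [Prod.fst_mul, Prod.fst_mul, mul_smul, mul_smul, h.σa, hx, smul_inv_smul]

/-- lifts of neighbours are unique -/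
theorem adj_unique {g u u' : M × G} (e : h.Adj g u) (e' : h.Adj g u') (hv : u.1 • a = u'.1 • a) :
    h.Same u u' := by
  obtain ⟨r, hr, he⟩ := e
  obtain ⟨r', hr', he'⟩ := e'
  refine h.same_trans (h.same_symm he) (h.same_trans ?_ he')
  rw [h.same_smul he, h.same_smul he'] at hv
  simp only [Prod.fst_mul, mul_smul, h.σa, smul_left_cancel_iff] at hv
  have hb : (r⁻¹ * r').1 • b = b := by
    rw [Prod.fst_mul, Prod.fst_inv, mul_smul, ← hv, inv_smul_smul]
  show (g * r * (σ, s))⁻¹ * (g * r' * (σ, s)) ∈ h.R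
  rw [show (g * r * (σ, s))⁻¹ * (g * r' * (σ, s)) = (σ, s)⁻¹ * (r⁻¹ * r') * (σ, s) by group,
    h.hat_inv]
  exact h.swap_mem (mul_mem (inv_mem hr) hr') hb

/-- triangles lift -/
theorem triangle {g u u' : M × G} (e : h.Adj g u) (e' : h.Adj g u')
    (hv : adj (u.1 • a) (u'.1 • a)) : h.Adj u u' := by
  obtain ⟨r, hr, he⟩ := e
  obtain ⟨r', hr', he'⟩ := e'
  refine h.adj_congr ?_ he he'
  rw [h.same_smul he, h.same_smul he'] at hv
  simp only [Prod.fst_mul, mul_smul, h.σa] at hv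
  have h1 := h.inv (g.1 * r.1)⁻¹ _ _ hv
  simp only [← mul_smul, inv_mul_cancel, one_smul] at h1
  rw [show (g.1 * r.1)⁻¹ * (g.1 * r'.1) = r.1⁻¹ * r'.1 by group] at h1
  have hra : (r⁻¹ * r').1 • a = a := h.R_fix (mul_mem (inv_mem hr) hr')
  have h2 := h.inv (r⁻¹ * r').1 _ _ h.ab
  rw [hra] at h2
  obtain ⟨x, hxb, hxc⟩ := h.trans_tri _ h2 h1
  set xh : M × G := ((x : M), θ x) with hxh
  set ph : M × G := ((π : M), θ π) with hph
  -- the lift of the third vertex
  have hsame : h.Same (g * r * xh * ph * (σ, s)) (g * r' * (σ, s)) := by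
    show (g * r * xh * ph * (σ, s))⁻¹ * (g * r' * (σ, s)) ∈ h.R
    rw [show (g * r * xh * ph * (σ, s))⁻¹ * (g * r' * (σ, s)) =
      (σ, s)⁻¹ * ((xh * ph)⁻¹ * (r⁻¹ * r')) * (σ, s) by group, h.hat_inv]
    refine h.swap_mem (mul_mem (inv_mem (mul_mem (h.gr_mem x) (h.gr_mem π)))
      (mul_mem (inv_mem hr) hr')) ?_
    rw [Prod.fst_mul, Prod.fst_inv, mul_smul, Prod.fst_mul, inv_smul_eq_iff, mul_smul]
    show _ = (x : M) • ((π : M) • b)
    rw [h.πb, hxc]
  have hsame' : h.Same (g * r * xh * (σ, s)) (g * r * (σ, s)) := by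
    show (g * r * xh * (σ, s))⁻¹ * (g * r * (σ, s)) ∈ h.R
    rw [show (g * r * xh * (σ, s))⁻¹ * (g * r * (σ, s)) = (σ, s)⁻¹ * xh⁻¹ * (σ, s) by group, h.hat_inv]
    refine h.swap_mem (inv_mem (h.gr_mem x)) ?_
    show (x : M)⁻¹ • b = b
    rw [inv_smul_eq_iff, hxb]
  refine h.adj_congr (h.adj_left (g * r * xh)
    (show h.Adj (σ, s) ((σ, s) * ph * (σ, s)) from ⟨ph, h.gr_mem π, h.same_refl _⟩)) hsame' ?_
  refine h.same_trans ?_ hsame
  show (g * r * xh * ((σ, s) * ph * (σ, s)))⁻¹ * (g * r * xh * ph * (σ, s)) ∈ h.R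
  have hb : (σ, s) * ph * (σ, s) = ph * (σ, s) * ph := Prod.ext h.braid h.sbraid
  rw [hb, show (g * r * xh * (ph * (σ, s) * ph))⁻¹ * (g * r * xh * ph * (σ, s)) = ph⁻¹ by group]
  exact inv_mem (h.gr_mem π)

/-- the lift of a far vertex through a common neighbour -/
def Lift (h : Amalg adj a b c θ σ s π) (y z : V) (g : M × G) : Prop :=
  ∃ u, h.Adj 1 u ∧ u.1 • a = y ∧ h.Adj u g ∧ g.1 • a = z

theorem exists_lift {y z : V} (hy : Comn adj a z y) : ∃ g, h.Lift y z g := by
  obtain ⟨u, hu, hu'⟩ := h.lift 1 (v := y) (by rw [Prod.fst_one, one_smul]; exact hy.1)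
  obtain ⟨g, hg, hg'⟩ := h.lift u (v := z) (by rw [hu']; exact hy.2)
  exact ⟨g, u, hu, hu', hg, hg'⟩

theorem lift_unique {y z : V} {g g' : M × G} (l : h.Lift y z g) (l' : h.Lift y z g') :
    h.Same g g' := by
  obtain ⟨u, hu, hu', hg, hg'⟩ := l
  obtain ⟨w, hw, hw', hgg, hgg'⟩ := l'
  have e := h.adj_unique hu hw (hu'.trans hw'.symm)
  exact h.adj_unique (h.adj_congr hg e (h.same_refl g)) hgg (hg'.trans hgg'.symm)

theorem lift_congr {y z : V} {g g' : M × G} (l : h.Lift y z g) (e : h.Same g g') :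
    h.Lift y z g' := by
  obtain ⟨u, hu, hu', hg, hg'⟩ := l
  exact ⟨u, hu, hu', h.adj_congr hg (h.same_refl u) e, (h.same_smul e).trans hg'⟩

theorem lift_mem {y z : V} {g : M × G} (l : h.Lift y z g) : g ∈ h.S := by
  obtain ⟨u, hu, -, hg, -⟩ := l
  exact h.adj_mem hg (h.adj_mem hu (one_mem _))

/-- adjacent common neighbours give the same lift -/
theorem lift_step {y y' z : V} {g : M × G} (l : h.Lift y z g) (hy : adj y y')
    (hy' : Comn adj a z y') : h.Lift y' z g := by
  obtain ⟨u, hu, hu', hg, hg'⟩ := l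
  obtain ⟨w, hw, hw'⟩ := h.lift 1 (v := y') (by rw [Prod.fst_one, one_smul]; exact hy'.1)
  have huw := h.triangle hu hw (by rw [hu', hw']; exact hy)
  exact ⟨w, hw, hw', h.triangle huw hg (by rw [hw', hg']; exact hy'.2), hg'⟩

theorem lift_reach {y y' z : V} {g : M × G} (l : h.Lift y z g) (e : Reach adj a z y y') :
    h.Lift y' z g := by
  induction e with
  | refl => exact l
  | tail _ hpq ih => exact h.lift_step ih hpq.1 hpq.2

/-- when the lifts of far vertices are unambiguous the cover is trivial -/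
theorem fix_mem_R
    (hmeet : ∀ z w, IsFar adj a z → IsFar adj a w → adj z w → ∃ y, Comn adj a z y ∧ adj y w)
    (hk : ∀ z y y' g g', IsFar adj a z → h.Lift y z g → h.Lift y' z g' → h.Same g g')
    {g : M × G} (hg : g ∈ h.S) (hga : g.1 • a = a) : g ∈ h.R := by
  let T : M × G → Prop := fun g => h.Same 1 g ∨ h.Adj 1 g ∨
    ∃ y, IsFar adj a (g.1 • a) ∧ h.Lift y (g.1 • a) g
  have Tcongr : ∀ {g g'}, T g → h.Same g g' → T g' := by
    intro g g' hT e
    rcases hT with q | q | ⟨y, hy, l⟩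
    · exact Or.inl (h.same_trans q e)
    · exact Or.inr (Or.inl (h.adj_congr q (h.same_refl 1) e))
    · exact Or.inr (Or.inr ⟨y, by rw [h.same_smul e]; exact ⟨hy, h.lift_congr l e⟩⟩)
  have closed : ∀ {g u}, T g → h.Adj g u → T u := by
    intro g u hT e
    have hv := h.adj_vert e
    rcases hT with q | q | ⟨y, hy, l⟩
    · exact Or.inr (Or.inl (h.adj_congr e (h.same_symm q) (h.same_refl u)))
    · have hga := h.adj_vert q
      rw [Prod.fst_one, one_smul] at hga
      by_cases ea : u.1 • a = a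
      · exact Or.inl (h.adj_unique (h.adj_symm q) e (by rw [Prod.fst_one, one_smul, ea]))
      by_cases ad : adj a (u.1 • a)
      · obtain ⟨w, hw, hw'⟩ := h.lift 1 (v := u.1 • a) (by rw [Prod.fst_one, one_smul]; exact ad)
        have := h.triangle q hw (by rw [hw']; exact hv)
        exact Or.inr (Or.inl (h.adj_congr hw (h.same_refl 1) (h.adj_unique this e hw')))
      · exact Or.inr (Or.inr ⟨g.1 • a, ⟨ea, ad⟩, g, q, rfl, e, rfl⟩)
    · by_cases ea : u.1 • a = a
      · rw [ea] at hv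
        exact absurd (h.symm _ _ hv) hy.2
      by_cases ad : adj a (u.1 • a)
      · obtain ⟨g', l'⟩ := h.exists_lift (z := g.1 • a) (y := u.1 • a) ⟨ad, h.symm _ _ hv⟩
        have es := hk _ _ _ _ _ hy l' l
        obtain ⟨w, hw, hw', hwg, -⟩ := h.lift_congr l' es
        exact Or.inr (Or.inl (h.adj_congr hw (h.same_refl 1)
          (h.adj_unique (h.adj_symm hwg) e hw')))
      · obtain ⟨y', hy', hyw⟩ := hmeet _ _ hy ⟨ea, ad⟩ hv
        obtain ⟨g', l'⟩ := h.exists_lift hy'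
        obtain ⟨w, hw, hw', hwg, -⟩ := h.lift_congr l' (hk _ _ _ _ _ hy l' l)
        obtain ⟨u', hu, hu'⟩ := h.lift w (v := u.1 • a) (by rw [hw']; exact hyw)
        have := h.triangle hwg hu (by rw [hu']; exact hv)
        exact Tcongr (Or.inr (Or.inr ⟨y', by rw [hu']; exact ⟨⟨ea, ad⟩, w, hw, hw', hu, hu'⟩⟩))
          (h.adj_unique this e hu')
  have all : ∀ g ∈ h.S, T g := by
    intro g hg
    induction hg using Subgroup.closure_induction_right with
    | one => exact Or.inl (h.same_refl 1)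
    | mul_right x hx y hy ih =>
      rcases hy with hy | hy
      · exact Tcongr ih (show x⁻¹ * (x * y) ∈ h.R by rwa [inv_mul_cancel_left])
      · rw [Set.mem_singleton_iff.mp hy]
        exact closed ih (h.adj_base x)
    | mul_inv_cancel x hx y hy ih =>
      rcases hy with hy | hy
      · exact Tcongr ih (show x⁻¹ * (x * y⁻¹) ∈ h.R by rw [inv_mul_cancel_left]; exact inv_mem hy)
      · rw [Set.mem_singleton_iff.mp hy, h.hat_inv]
        exact closed ih (h.adj_base x)
  rcases all g hg with q | q | ⟨y, hy, -⟩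
  · have : (1 : M × G)⁻¹ * g ∈ h.R := q
    rwa [inv_one, one_mul] at this
  · have := h.adj_vert q
    rw [Prod.fst_one, one_smul, hga] at this
    exact absurd this (h.irr a)
  · exact absurd hga hy.1

/-- the projection is onto -/
theorem proj_surjective (hfar : ∀ v, IsFar adj a v → ∃ y, Comn adj a v y) (m : M) :
    ∃ g ∈ h.S, g.1 = m := by
  obtain ⟨g, hg, hga⟩ : ∃ g ∈ h.S, g.1 • a = m • a := by
    have near : ∀ y, adj a y → ∃ g ∈ h.S, g.1 • a = y := fun y hy => by
      obtain ⟨u, hu, hu'⟩ := h.lift 1 (v := y) (by rw [Prod.fst_one, one_smul]; exact hy)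
      exact ⟨u, h.adj_mem hu (one_mem _), hu'⟩
    by_cases ea : m • a = a
    · exact ⟨1, one_mem _, by rw [Prod.fst_one, one_smul, ea]⟩
    by_cases ad : adj a (m • a)
    · exact near _ ad
    · obtain ⟨y, hy⟩ := hfar _ ⟨ea, ad⟩
      obtain ⟨g, l⟩ := h.exists_lift hy
      exact ⟨g, h.lift_mem l, l.choose_spec.2.2.2⟩
  have hmem : g.1⁻¹ * m ∈ stabilizer M a := by
    rw [mem_stabilizer_iff, mul_smul, ← hga, inv_smul_smul]
  refine ⟨g * ((⟨_, hmem⟩ : ↥(stabilizer M a)).1, θ ⟨_, hmem⟩),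
    mul_mem hg (h.R_le (h.gr_mem _)), ?_⟩
  show g.1 * (g.1⁻¹ * m) = m
  rw [mul_inv_cancel_left]

/-- when the lifts of far vertices are unambiguous the map extends -/
theorem exists_hom (hfar : ∀ v, IsFar adj a v → ∃ y, Comn adj a v y)
    (hmeet : ∀ z w, IsFar adj a z → IsFar adj a w → adj z w → ∃ y, Comn adj a z y ∧ adj y w)
    (hk : ∀ z y y' g g', IsFar adj a z → h.Lift y z g → h.Lift y' z g' → h.Same g g') :
    ∃ f : M →* G, (∀ x : ↥(stabilizer M a), f x = θ x) ∧ f σ = s := by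
  let p : ↥h.S →* M := (MonoidHom.fst M G).comp h.S.subtype
  have hp : Function.Bijective p := by
    refine ⟨(injective_iff_map_eq_one p).2 fun g hg => ?_, fun m => ?_⟩
    · have h1 : (g : M × G).1 = 1 := hg
      obtain ⟨x, hx⟩ := h.mem_R.1 (h.fix_mem_R hmeet hk g.2 (by rw [h1, one_smul]))
      have hx1 : x = 1 := Subtype.ext ((congrArg Prod.fst hx).trans h1)
      refine Subtype.ext ?_
      rw [← hx, hx1, map_one]
      rfl
    · obtain ⟨g, hg, e⟩ := h.proj_surjective hfar m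
      exact ⟨⟨g, hg⟩, e⟩
  let P : ↥h.S ≃* M := MulEquiv.ofBijective p hp
  let f : M →* G := ((MonoidHom.snd M G).comp h.S.subtype).comp P.symm.toMonoidHom
  have key : ∀ g : ↥h.S, f (g : M × G).1 = (g : M × G).2 := fun g => by
    show ((P.symm (P g) : ↥h.S) : M × G).2 = _
    rw [P.symm_apply_apply]
  exact ⟨f, fun x => key ⟨_, h.R_le (h.gr_mem x)⟩, key ⟨_, h.σ_mem⟩⟩

/-- connected common neighbours make the lifts unambiguous -/
theorem hk_of_linked
    (hlink : ∀ z y y', IsFar adj a z → Comn adj a z y → Comn adj a z y' → Reach adj a z y y') :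
    ∀ z y y' g g', IsFar adj a z → h.Lift y z g → h.Lift y' z g' → h.Same g g' := by
  intro z y y' g g' hz l l'
  have mem : ∀ {y g}, h.Lift y z g → Comn adj a z y := by
    rintro y g ⟨u, hu, rfl, hg, rfl⟩
    have := h.adj_vert hu
    rw [Prod.fst_one, one_smul] at this
    exact ⟨this, h.adj_vert hg⟩
  exact h.lift_unique (h.lift_reach l (hlink z y y' hz (mem l) (mem l'))) l'

/-- the deck values at a far vertex -/
def deckSet (h : Amalg adj a b c θ σ s π) (z : V) : Set G :=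
  {k | ((1 : M), k) ∈ h.S ∧ ∃ y y' g g', h.Lift y z g ∧ h.Lift y' z g' ∧ h.Same ((1, k) * g) g'}

theorem lift_comn {y z : V} {g : M × G} (l : h.Lift y z g) : Comn adj a z y := by
  obtain ⟨u, hu, rfl, hg, rfl⟩ := l
  have := h.adj_vert hu
  rw [Prod.fst_one, one_smul] at this
  exact ⟨this, h.adj_vert hg⟩

theorem deck_exists {y y' z : V} {g g' : M × G} (l : h.Lift y z g) (l' : h.Lift y' z g') :
    ∃ k ∈ h.deckSet z, h.Same ((1, k) * g) g' := by
  obtain ⟨u, -, -, -, hz⟩ := id l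
  obtain ⟨u', -, -, -, hz'⟩ := id l'
  have hmem : g.1⁻¹ * g'.1 ∈ stabilizer M a := by
    rw [mem_stabilizer_iff, mul_smul, hz', ← hz, inv_smul_smul]
  set x : ↥(stabilizer M a) := ⟨_, hmem⟩ with hx
  set d : M × G := g' * ((x : M), θ x)⁻¹ * g⁻¹ with hd
  have hd1 : d.1 = 1 := by
    show g'.1 * (g.1⁻¹ * g'.1)⁻¹ * g.1⁻¹ = 1
    group
  have e : (1, d.2) = d := Prod.ext hd1.symm rfl
  have hS : d ∈ h.S := mul_mem (mul_mem (h.lift_mem l') (inv_mem (h.R_le (h.gr_mem x))))
    (inv_mem (h.lift_mem l))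
  have hsame : h.Same ((1, d.2) * g) g' := by
    show ((1, d.2) * g)⁻¹ * g' ∈ h.R
    rw [e, hd, show (g' * ((x : M), θ x)⁻¹ * g⁻¹ * g)⁻¹ * g' = ((x : M), θ x) by group]
    exact h.gr_mem x
  exact ⟨d.2, ⟨by rw [e]; exact hS, y, y', g, g', l, l', hsame⟩, hsame⟩

theorem deck_unique {k k' : G} {g g' : M × G} (e : h.Same ((1, k) * g) g')
    (e' : h.Same ((1, k') * g) g') : k = k' := by
  obtain ⟨x, hx⟩ := h.mem_R.1 (h.same_trans e (h.same_symm e'))
  have h1 : (x : M) = 1 := by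
    have := congrArg Prod.fst hx
    simp only [Prod.fst_mul, Prod.fst_inv, one_mul] at this
    rw [this, inv_mul_cancel]
  have hx1 : x = 1 := Subtype.ext h1
  have h2 := congrArg Prod.snd hx
  simp only [hx1, map_one, Prod.snd_mul, Prod.snd_inv] at h2
  rw [eq_comm, inv_mul_eq_one] at h2
  exact mul_right_cancel h2

/-- deck values move along edges between far vertices -/
theorem deck_step {z w : V} (hzw : adj z w)
    (hrm : ∀ y, Comn adj a z y → ∃ y', Reach adj a z y y' ∧ adj y' w) :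
    h.deckSet z ⊆ h.deckSet w := by
  rintro k ⟨hkS, y, y', g, g', l, l', e⟩
  have key : ∀ {y g}, h.Lift y z g → ∃ v u, h.Lift v w u ∧ h.Adj g u := by
    intro y g l
    obtain ⟨y1, hr, hy1⟩ := hrm y (h.lift_comn l)
    obtain ⟨u, hu, hu', hg, hg'⟩ := h.lift_reach l hr
    obtain ⟨q, hq, hq'⟩ := h.lift u (v := w) (by rw [hu']; exact hy1)
    exact ⟨y1, q, ⟨u, hu, hu', hq, hq'⟩, h.triangle hg hq (by rw [hg', hq']; exact hzw)⟩
  obtain ⟨v, u, lu, eu⟩ := key l
  obtain ⟨v', u', lu', eu'⟩ := key l'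
  refine ⟨hkS, v, v', u, u', lu, lu', ?_⟩
  refine h.adj_unique (h.adj_congr (h.adj_left (1, k) eu) e (h.same_refl _)) eu' ?_
  rw [Prod.fst_mul, one_mul, lu.choose_spec.2.2.2, lu'.choose_spec.2.2.2]

/-- deck values are carried along by the stabiliser -/
theorem deck_conj (x : ↥(stabilizer M a)) {z : V} {k : G} (hk : k ∈ h.deckSet z) :
    θ x * k * (θ x)⁻¹ ∈ h.deckSet ((x : M) • z) := by
  obtain ⟨hkS, y, y', g, g', l, l', e⟩ := hk
  set r : M × G := ((x : M), θ x) with hr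
  have hrR : r ∈ h.R := h.gr_mem x
  have move : ∀ {y g}, h.Lift y z g → h.Lift ((x : M) • y) ((x : M) • z) (r * g) := by
    rintro y g ⟨u, hu, hu', hg, hg'⟩
    refine ⟨r * u, h.adj_congr (h.adj_left r hu) ?_ (h.same_refl _), ?_, h.adj_left r hg, ?_⟩
    · show (r * 1)⁻¹ * 1 ∈ h.R
      rw [mul_one, mul_one]; exact inv_mem hrR
    · rw [Prod.fst_mul, mul_smul, hu']
    · rw [Prod.fst_mul, mul_smul, hg']
  have ek : r * (1, k) * r⁻¹ = (1, θ x * k * (θ x)⁻¹) := Prod.ext (by simp [hr]) rfl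
  refine ⟨ek ▸ mul_mem (mul_mem (h.R_le hrR) hkS) (inv_mem (h.R_le hrR)), _, _, _, _,
    move l, move l', ?_⟩
  have := h.same_left r e
  rwa [show r * ((1, k) * g) = r * (1, k) * r⁻¹ * (r * g) by group, ek] at this

/-- few deck values centralised by the stabiliser are trivial -/
theorem hk_of_classes {n : ℕ} {z0 : V} (hz0 : IsFar adj a z0)
    (hy : ∃ y : Fin n → V, (∀ i, Comn adj a z0 (y i)) ∧
      ∀ v, Comn adj a z0 v → ∃ i, Reach adj a z0 (y i) v)
    (hrm : ∀ z w, IsFar adj a z → IsFar adj a w → adj z w → ∀ y, Comn adj a z y →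
      ∃ y', Reach adj a z y y' ∧ adj y' w)
    (hconn : ∀ P : V → Prop, (∀ z w, IsFar adj a z → IsFar adj a w → adj z w → P z → P w) →
      P z0 → ∀ z, IsFar adj a z → P z)
    (hact : ∀ T : Set G, T.Finite → T.ncard ≤ n * n →
      (∀ x, ∀ k ∈ T, θ x * k * (θ x)⁻¹ ∈ T) → ∀ k ∈ T, ∀ x, Commute (θ x) k)
    (htriv : ∀ k, (∀ x, Commute (θ x) k) → k = 1) :
    ∀ z y y' g g', IsFar adj a z → h.Lift y z g → h.Lift y' z g' → h.Same g g' := by
  classical
  obtain ⟨y0, hy0, hcov⟩ := hy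
  choose L hL using fun i => h.exists_lift (hy0 i)
  choose K hK hKs using fun p : Fin n × Fin n => h.deck_exists (hL p.1) (hL p.2)
  have hsub : h.deckSet z0 ⊆ Set.range K := by
    rintro k ⟨-, y, y', g, g', l, l', e⟩
    obtain ⟨i, hi⟩ := hcov y (h.lift_comn l)
    obtain ⟨j, hj⟩ := hcov y' (h.lift_comn l')
    have e1 := h.lift_unique (h.lift_reach (hL i) hi) l
    have e2 := h.lift_unique (h.lift_reach (hL j) hj) l'
    exact ⟨(i, j), h.deck_unique (hKs (i, j))
      (h.same_trans (h.same_left (1, k) e1) (h.same_trans e (h.same_symm e2)))⟩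
  have step : ∀ z w, IsFar adj a z → IsFar adj a w → adj z w → h.deckSet z ⊆ h.deckSet w :=
    fun z w hz hw hzw => h.deck_step hzw (hrm z w hz hw hzw)
  have all : ∀ z, IsFar adj a z → h.deckSet z = h.deckSet z0 :=
    hconn (fun z => h.deckSet z = h.deckSet z0)
      (fun z w hz hw hzw e => (Set.Subset.antisymm (step z w hz hw hzw)
        (step w z hw hz (h.symm _ _ hzw))).symm.trans e) rfl
  have inv : ∀ x, ∀ k ∈ h.deckSet z0, θ x * k * (θ x)⁻¹ ∈ h.deckSet z0 := by
    intro x k hk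
    refine (all _ ⟨fun e => hz0.1 ?_, fun e => hz0.2 ?_⟩).subset (h.deck_conj x hk)
    · rw [← inv_smul_smul (x : M) z0, e, inv_smul_eq_iff, x.2]
    · have := h.inv (x : M)⁻¹ _ _ e
      rwa [inv_smul_smul, show (x : M)⁻¹ • a = a from inv_smul_eq_iff.2 x.2.symm] at this
  have hcard : (h.deckSet z0).ncard ≤ n * n := by
    refine (Set.ncard_le_ncard hsub (Set.finite_range K)).trans ?_
    rw [← Set.image_univ]
    refine (Set.ncard_image_le Set.finite_univ).trans ?_
    rw [Set.ncard_univ, Nat.card_prod, Nat.card_eq_fintype_card, Fintype.card_fin]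
  intro z y y' g g' hz l l'
  obtain ⟨k, hk, e⟩ := h.deck_exists l l'
  rw [all z hz] at hk
  have hk1 : k = 1 := htriv k fun x =>
    hact _ ((Set.finite_range K).subset hsub) hcard inv k hk x
  rw [hk1, show ((1 : M), (1 : G)) = 1 from rfl, one_mul] at e
  exact e

end Amalg

end Cfsg.Agent.H41.Fi24Rec
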