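import Cfsg.Agent.H41.Fi24Rec.Theta
import Cfsg.Agent.H93.Pair23
import Cfsg.Agent.H93.U6Grp
import Cfsg.Agent.H61.Glue.Normal

/-!
An involution exchanging the two involutions of the line and acting on their common centraliser as the
exchange of the first two members acts in the presented Fi23.
-/

set_option autoImplicit false
set_option maxRecDepth 8000

namespace Cfsg.Agent.H41.Fi24Rec

open Cfsg.Agent.H93 Cfsg.Agent.H93.Exist
open Cfsg.Agent.H61.Glue (TI Closed closed_nb vfr tr3 wpt_facts tr3_central inner_of_values)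

attribute [local instance] finG23

universe u

/-- the exchange -/
structure Edge {G : Type u} [Group G] (t e : G) (θ : G23 → G) (s : G) : Prop where
  ss : s * s = 1
  st : s * t * s = e
  compat : ∀ x, Commute x pa → Commute x pb → θ (sg * x * sg) = s * θ x * s

theorem sg_inv : (sg : G23)⁻¹ = sg := inv_eq_of_mul_eq_one_left sg_sq

theorem sg_conj_mul (x y : G23) : sg * (x * y) * sg = sg * x * sg * (sg * y * sg) := by
  calc sg * (x * y) * sg = sg * x * (sg * sg) * y * sg := by rw [sg_sq]; group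
    _ = _ := by group

theorem sg_conj_conj (x : G23) : sg * (sg * x * sg) * sg = x := by
  rw [show sg * (sg * x * sg) * sg = (sg * sg) * x * (sg * sg) by group, sg_sq, one_mul, mul_one]

theorem sg_conj_comm {x : G23} (ha : Commute x pa) (hb : Commute x pb) :
    Commute (sg * x * sg) pa ∧ Commute (sg * x * sg) pb := by
  constructor
  · show sg * x * sg * pa = pa * (sg * x * sg)
    conv_lhs => rw [← sg_b, ← sg_conj_mul, hb.eq]
    conv_rhs => rw [← sg_b, ← sg_conj_mul]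
  · show sg * x * sg * pb = pb * (sg * x * sg)
    conv_lhs => rw [← sg_a, ← sg_conj_mul, ha.eq]
    conv_rhs => rw [← sg_a, ← sg_conj_mul]

theorem comm_of_mem {v : G23} (hv : v ∈ nb D23 pa ∩ nb D23 pb) : Commute v pa ∧ Commute v pb :=
  ⟨hv.1.2.2.symm, hv.2.2.2.symm⟩

theorem conj_mem_C {k v : G23} (ha : Commute k pa) (hb : Commute k pb)
    (hv : v ∈ nb D23 pa ∩ nb D23 pb) : k * v * k⁻¹ ∈ nb D23 pa ∩ nb D23 pb := by
  have h1 := tt23.nb_conj k hv.1
  have h2 := tt23.nb_conj k hv.2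
  rw [ha.eq, mul_inv_cancel_right] at h1
  rw [hb.eq, mul_inv_cancel_right] at h2
  exact ⟨h1, h2⟩

theorem sg_mem_C {v : G23} (hv : v ∈ nb D23 pa ∩ nb D23 pb) :
    sg * v * sg ∈ nb D23 pa ∩ nb D23 pb := by
  have h1 := tt23.nb_conj sg hv.1
  have h2 := tt23.nb_conj sg hv.2
  rw [sg_inv, sg_a] at h1
  rw [sg_inv, sg_b] at h2
  exact ⟨h2, h1⟩

theorem pa_ne_pb : pa ≠ pb := gen_ne (by decide)

theorem ab_ne_one : pa * pb ≠ 1 := fun h => pa_ne_pb (by
  rw [eq_inv_of_mul_eq_one_left h, tt23.inv_eq pb_mem])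

theorem C_not_four {v : G23} (hv : v ∈ nb D23 pa ∩ nb D23 pb) :
    ¬ (v = 1 ∨ v = pa ∨ v = pb ∨ v = pa * pb) := by
  rintro (q | q | q | q)
  · exact hM23.core.ne_one v hv.1.1 q
  · exact hv.1.2.1 q
  · exact hv.2.2.1 q
  · refine hM23.ind [v, pa, pb] ?_ (by simp) (by simp) ?_ ?_ ?_
    · simp [hv.1.2.1, hv.2.2.1, pa_ne_pb]
    · simp [hv.1.1, pa_mem, pb_mem]
    · have hc := comm_of_mem hv
      have hab' : Commute pa pb := hab.2.2
      simp only [List.mem_cons, List.not_mem_nil, or_false]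
      rintro x (rfl | rfl | rfl) y (rfl | rfl | rfl)
      exacts [Commute.refl _, hc.1, hc.2, hc.1.symm, Commute.refl _, hab', hc.2.symm, hab'.symm,
        Commute.refl _]
    · rw [List.prod_cons, List.prod_cons, List.prod_cons, List.prod_nil, mul_one, ← q]
      exact tt23.sq v hv.1.1

namespace Theta

variable {G : Type u} [Group G] {t e : G} {K : Subgroup G} {θ : G23 → G} (h : Theta t e K θ)

include h

theorem one : θ 1 = 1 := by
  have := h.mul (x := 1) (y := 1) (Commute.one_left _) (Commute.one_left _)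
  rwa [one_mul, left_eq_mul] at this

theorem inv {x : G23} (hx : Commute x pa) : θ x⁻¹ = (θ x)⁻¹ :=
  eq_inv_of_mul_eq_one_left (by rw [← h.mul hx.inv_left hx, inv_mul_cancel, h.one])

theorem conj {k x : G23} (hk : Commute k pa) (hx : Commute x pa) :
    θ (k * x * k⁻¹) = θ k * θ x * (θ k)⁻¹ := by
  rw [h.mul (hk.mul_left hx) hk.inv_left, h.mul hk hx, h.inv hk]

theorem comm {x y : G23} (hx : Commute x pa) (hy : Commute y pa) :
    Commute (θ x) (θ y) ↔ Commute x y := by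
  refine ⟨fun q => h.inj (hx.mul_left hy) (hy.mul_left hx) ?_, fun q => ?_⟩
  · rw [h.mul hx hy, h.mul hy hx]; exact q.eq
  · show θ x * θ y = θ y * θ x
    rw [← h.mul hx hy, ← h.mul hy hx, q.eq]

theorem commute_t {x : G23} (hx : Commute x pa) : Commute (θ x) t :=
  h.ta ▸ (h.comm hx (Commute.refl pa)).2 hx

theorem commute_e {x : G23} (hx : Commute x pa) (hb : Commute x pb) : Commute (θ x) e :=
  h.tb ▸ (h.comm hx hab.2.2.symm).2 hb

theorem cen_te (F : Facts t e K) {u : G} (ut : Commute u t) (ue : Commute u e) :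
    ∃ x, Commute x pa ∧ Commute x pb ∧ θ x = u := by
  obtain ⟨x, hx, rfl⟩ := h.surj u (F.cent u ut ue)
  exact ⟨x, hx, (h.comm hx hab.2.2.symm).1 (h.tb.symm ▸ ue), rfl⟩

/-- the classes of a common neighbour times the members of the pair -/
theorem cls3 (F : Facts t e K) {v : G23} (hv : v ∈ nb D23 pa ∩ nb D23 pb) :
    IsConj t (θ v) ∧ IsConj t (θ (v * pa)) ∧ IsConj t (θ (v * pb)) ∧
      ¬ IsConj t (θ (v * (pa * pb))) := by
  obtain ⟨k, hk, hc, hne, hne', h1, h2⟩ := F.third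
  obtain ⟨m, hm, rfl⟩ := h.surj k hk
  have hba' : Commute pb pa := hab.2.2.symm
  set v0 := m * pb * m⁻¹ with hv0
  have ev0 : θ v0 = θ m * e * (θ m)⁻¹ := by rw [hv0, h.conj hm hba', h.tb]
  have h0a : v0 ∈ nb D23 pa := by
    have := tt23.nb_conj m hab
    rwa [hm.eq, mul_inv_cancel_right] at this
  have h0 : v0 ∈ nb D23 pa ∩ nb D23 pb := by
    refine ⟨h0a, h0a.1, fun q => hne ?_, ((h.comm h0a.2.2.symm hba').1 ?_).symm⟩
    · rw [← ev0, q, h.tb]
    · rw [ev0, h.tb]; exact hc.symm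
  obtain ⟨l, la, lb, rfl⟩ := trans2 h0 hv
  have move : ∀ {w}, Commute w pa → Commute (l : G23) w →
      (IsConj t (θ (l * v0 * l⁻¹ * w)) ↔ IsConj t (θ (v0 * w))) := fun {w} hw hlw => by
    rw [show l * v0 * l⁻¹ * w = l * (v0 * w) * l⁻¹ by
      rw [show l * (v0 * w) * l⁻¹ = l * v0 * (w * l⁻¹) by group, ← hlw.inv_left.eq]; group,
      h.conj la (h0a.2.2.symm.mul_left hw)]
    have q : IsConj (θ (v0 * w)) (θ l * θ (v0 * w) * (θ l)⁻¹) := isConj_iff.2 ⟨θ l, rfl⟩
    exact ⟨fun r => r.trans q.symm, fun r => r.trans q⟩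
  have conje : IsConj e (θ m * e * (θ m)⁻¹) := isConj_iff.2 ⟨θ m, rfl⟩
  refine ⟨?_, ?_, ?_, ?_⟩
  · have := (move (Commute.one_left pa) (Commute.one_right l)).2
    rw [mul_one, mul_one, ev0] at this
    exact this (F.conj_e.trans conje)
  · refine (move (Commute.refl pa) la).2 ?_
    rw [h.mul h0a.2.2.symm (Commute.refl pa), ev0, h.ta]
    refine F.conj_te.trans (isConj_iff.2 ⟨θ m, ?_⟩)
    calc θ m * (t * e) * (θ m)⁻¹ = (θ m * t) * e * (θ m)⁻¹ := by group
      _ = t * (θ m * e * (θ m)⁻¹) := by rw [(h.commute_t hm).eq]; group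
      _ = _ := ((ev0 ▸ h.commute_t h0a.2.2.symm : Commute _ t)).symm.eq
  · refine (move hba' lb).2 ?_
    rw [h.mul h0a.2.2.symm hba', ev0, h.tb, hc.symm.eq]
    exact h1
  · intro q
    have := (move ((Commute.refl pa).mul_left hba') (la.mul_right lb)).1 q
    rw [h.mul h0a.2.2.symm ((Commute.refl pa).mul_left hba'), h.mul (Commute.refl pa) hba', ev0,
      h.ta, h.tb, ((ev0 ▸ h.commute_t h0a.2.2.symm : Commute _ t).mul_right hc.symm).eq] at this
    exact h2 this

/-- the exchange exists -/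
theorem exists_edge [Finite G] (F : Facts t e K) : ∃ s, Edge t e θ s := by
  classical
  obtain ⟨g, hgt, hge⟩ := F.swap
  set C := nb D23 pa ∩ nb D23 pb with hC
  have hex : ∀ x, ∃ y, Commute x pa → Commute x pb →
      Commute y pa ∧ Commute y pb ∧ θ y = g * θ (sg * x * sg) * g⁻¹ := by
    intro x
    by_cases hx : Commute x pa ∧ Commute x pb
    · obtain ⟨ha, hb⟩ := sg_conj_comm hx.1 hx.2
      have c1 : Commute (g * θ (sg * x * sg) * g⁻¹) t :=
        hge ▸ commute_conj.2 (h.commute_e ha hb)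
      have c2 : Commute (g * θ (sg * x * sg) * g⁻¹) e := hgt ▸ commute_conj.2 (h.commute_t ha)
      obtain ⟨y, hy⟩ := h.cen_te F c1 c2
      exact ⟨y, fun _ _ => hy⟩
    · exact ⟨1, fun a b => absurd ⟨a, b⟩ hx⟩
  choose δ hδ using hex
  have δmul : ∀ {x y}, Commute x pa → Commute x pb → Commute y pa → Commute y pb →
      δ (x * y) = δ x * δ y := by
    intro x y xa xb ya yb
    obtain ⟨p1, p2, p3⟩ := hδ x xa xb
    obtain ⟨q1, q2, q3⟩ := hδ y ya yb
    obtain ⟨r1, r2, r3⟩ := hδ (x * y) (xa.mul_left ya) (xb.mul_left yb)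
    refine h.inj r1 (p1.mul_left q1) ?_
    rw [r3, h.mul p1 q1, p3, q3, sg_conj_mul, h.mul (sg_conj_comm xa xb).1 (sg_conj_comm ya yb).1]
    group
  have δinj : ∀ {x y}, Commute x pa → Commute x pb → Commute y pa → Commute y pb →
      δ x = δ y → x = y := by
    intro x y xa xb ya yb q
    have e1 : g * θ (sg * x * sg) * g⁻¹ = g * θ (sg * y * sg) * g⁻¹ := by
      rw [← (hδ x xa xb).2.2, ← (hδ y ya yb).2.2, q]
    exact mul_left_cancel (mul_right_cancel (h.inj (sg_conj_comm xa xb).1 (sg_conj_comm ya yb).1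
      (mul_left_cancel (mul_right_cancel e1))))
  have δsurj : ∀ y, Commute y pa → Commute y pb → ∃ x, Commute x pa ∧ Commute x pb ∧ δ x = y := by
    intro y ya yb
    have c1 : Commute (g⁻¹ * θ y * g) t := by
      have := commute_conj (g := g⁻¹).2 (h.commute_e ya yb)
      rw [inv_inv] at this
      rwa [show g⁻¹ * e * g = t by rw [← hgt]; group] at this
    have c2 : Commute (g⁻¹ * θ y * g) e := by
      have := commute_conj (g := g⁻¹).2 (h.commute_t ya)
      rw [inv_inv] at this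
      rwa [show g⁻¹ * t * g = e by rw [← hge]; group] at this
    obtain ⟨x, xa, xb, hx⟩ := h.cen_te F c1 c2
    obtain ⟨a', b'⟩ := sg_conj_comm xa xb
    refine ⟨_, a', b', h.inj (hδ _ a' b').1 ya ?_⟩
    rw [(hδ _ a' b').2.2, sg_conj_conj, hx]
    group
  have hpb : Commute pb pa := hab.2.2.symm
  have δa : δ pa = pa := h.inj (hδ pa (Commute.refl _) hab.2.2).1 (Commute.refl _) (by
    rw [(hδ pa (Commute.refl _) hab.2.2).2.2, sg_a, h.tb, hge, h.ta])
  have δb : δ pb = pb := h.inj (hδ pb hpb (Commute.refl _)).1 hpb (by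
    rw [(hδ pb hpb (Commute.refl _)).2.2, sg_b, h.ta, hgt, h.tb])
  have δ1 : δ 1 = 1 := by
    have := δmul (Commute.one_left pa) (Commute.one_left pb) (Commute.one_left pa)
      (Commute.one_left pb)
    rwa [one_mul, left_eq_mul] at this
  have δab : δ (pa * pb) = pa * pb := by
    rw [δmul (Commute.refl pa) hab.2.2 hpb (Commute.refl pb), δa, δb]
  have δfour : ∀ {x}, Commute x pa → Commute x pb →
      (δ x = 1 ∨ δ x = pa ∨ δ x = pb ∨ δ x = pa * pb) →
      x = 1 ∨ x = pa ∨ x = pb ∨ x = pa * pb := by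
    intro x xa xb q
    rcases q with q | q | q | q
    · exact Or.inl (δinj xa xb (Commute.one_left _) (Commute.one_left _) (q.trans δ1.symm))
    · exact Or.inr (Or.inl (δinj xa xb (Commute.refl _) hab.2.2 (q.trans δa.symm)))
    · exact Or.inr (Or.inr (Or.inl (δinj xa xb hpb (Commute.refl _) (q.trans δb.symm))))
    · exact Or.inr (Or.inr (Or.inr (δinj xa xb ((Commute.refl pa).mul_left hpb)
        (hab.2.2.mul_left (Commute.refl pb)) (q.trans δab.symm))))
  have δconj : ∀ {k x}, Commute k pa → Commute k pb → Commute x pa → Commute x pb →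
      δ (k * x * k⁻¹) = δ k * δ x * (δ k)⁻¹ := by
    intro k x ka kb xa xb
    rw [δmul (ka.mul_left xa) (kb.mul_left xb) ka.inv_left kb.inv_left, δmul ka kb xa xb]
    congr 1
    refine eq_inv_of_mul_eq_one_left ?_
    rw [← δmul ka.inv_left kb.inv_left ka kb, inv_mul_cancel, δ1]
  -- images in the unitary group
  obtain ⟨Kf, iKf, iKfF, hKf, ψ, hψs, hψk⟩ := hM23.pair_map pa_mem hab
  have mk : ∀ {x}, Commute x pa → Commute x pb →
      x ∈ Subgroup.centralizer ({pa, pb} : Set G23) := by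
    intro x xa xb
    refine Subgroup.mem_centralizer_iff.2 fun s hs => ?_
    rcases hs with rfl | rfl
    exacts [xa.eq.symm, xb.eq.symm]
  have un : ∀ x : ↥(Subgroup.centralizer ({pa, pb} : Set G23)),
      Commute (x : G23) pa ∧ Commute (x : G23) pb := fun x =>
    ⟨(Subgroup.mem_centralizer_iff.1 x.2 pa (by simp)).symm,
      (Subgroup.mem_centralizer_iff.1 x.2 pb (by simp)).symm⟩
  have isptv : ∀ E : Set (Cfsg.PSU 6 Kf 2), (∀ y ∈ E, ∃ v ∈ C, ∃ x, ψ x = y ∧
      ((x : G23) = v ∨ (x : G23) = δ v)) →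
      (∀ g : Cfsg.PSU 6 Kf 2, ∀ y ∈ E, g * y * g⁻¹ ∈ E) →
      (∀ a ∈ E, ∀ b ∈ E, (a * b) ^ 2 = 1 ∨ (a * b) ^ 3 = 1) →
      ∀ y ∈ E, ∃ p, IsPt p ∧ y = ptv hKf p := fun E hE hinv h3 =>
    three_transposition_is_ptv hKf E (fun y hy => by
      obtain ⟨v, hv, x, rfl, hx⟩ := hE y hy
      obtain ⟨va, vb⟩ := comm_of_mem hv
      have hsq : (x : G23) * x = 1 := by
        rcases hx with q | q <;> rw [q]
        · exact tt23.sq v hv.1.1
        · rw [← δmul va vb va vb, tt23.sq v hv.1.1, δ1]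
      refine ⟨by rw [← map_mul, show x * x = 1 from Subtype.ext hsq, map_one], fun q => ?_⟩
      rcases hx with r | r
      · exact C_not_four hv (r ▸ (hψk x).1 q)
      · exact C_not_four hv (δfour va vb (r ▸ (hψk x).1 q))) hinv h3
  let E1 : Set (Cfsg.PSU 6 Kf 2) := {y | ∃ v ∈ C, ∃ x, ψ x = y ∧ (x : G23) = v}
  let E2 : Set (Cfsg.PSU 6 Kf 2) := {y | ∃ v ∈ C, ∃ x, ψ x = y ∧ (x : G23) = δ v}
  have cube : ∀ {v w}, v ∈ C → w ∈ C → (v * w) ^ 2 = 1 ∨ (v * w) ^ 3 = 1 := fun hv hw =>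
    tt23.pair _ hv.1.1 _ hw.1.1
  have h1ptv : ∀ y ∈ E1, ∃ p, IsPt p ∧ y = ptv hKf p := by
    refine isptv E1 (fun y ⟨v, hv, x, e1, e2⟩ => ⟨v, hv, x, e1, Or.inl e2⟩) ?_ ?_
    · rintro g _ ⟨v, hv, x, rfl, hx⟩
      obtain ⟨k, rfl⟩ := hψs g
      exact ⟨_, conj_mem_C (un k).1 (un k).2 hv, k * x * k⁻¹, by simp, by simp [hx]⟩
    · rintro _ ⟨v, hv, x, rfl, hx⟩ _ ⟨w, hw, y, rfl, hy⟩
      rw [← map_mul, ← map_pow, ← map_pow]
      rcases cube hv hw with q | q
      · exact Or.inl (by rw [show (x * y) ^ 2 = 1 from Subtype.ext (by simp [hx, hy, q]), map_one])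
      · exact Or.inr (by rw [show (x * y) ^ 3 = 1 from Subtype.ext (by simp [hx, hy, q]), map_one])
  have h2ptv : ∀ y ∈ E2, ∃ p, IsPt p ∧ y = ptv hKf p := by
    refine isptv E2 (fun y ⟨v, hv, x, e1, e2⟩ => ⟨v, hv, x, e1, Or.inr e2⟩) ?_ ?_
    · rintro g _ ⟨v, hv, x, rfl, hx⟩
      obtain ⟨k, rfl⟩ := hψs g
      obtain ⟨m, ma, mb, em⟩ := δsurj k (un k).1 (un k).2
      refine ⟨_, conj_mem_C ma mb hv, k * x * k⁻¹, by simp, ?_⟩
      rw [δconj ma mb (comm_of_mem hv).1 (comm_of_mem hv).2, em, ← hx]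
      simp
    · rintro _ ⟨v, hv, x, rfl, hx⟩ _ ⟨w, hw, y, rfl, hy⟩
      obtain ⟨va, vb⟩ := comm_of_mem hv
      obtain ⟨wa, wb⟩ := comm_of_mem hw
      have e2 : δ v * δ w = δ (v * w) := (δmul va vb wa wb).symm
      have hpow : ∀ n : ℕ, (v * w) ^ n = 1 → (x * y) ^ n = 1 := fun n q => by
        refine Subtype.ext ?_
        have hn : ∀ n : ℕ, δ ((v * w) ^ n) = δ (v * w) ^ n := by
          intro n
          induction n with
          | zero => rw [pow_zero, pow_zero, δ1]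
          | succ k ih =>
            rw [pow_succ, pow_succ, δmul ((va.mul_left wa).pow_left k) ((vb.mul_left wb).pow_left k)
              (va.mul_left wa) (vb.mul_left wb), ih]
        simp only [Subgroup.coe_pow, Subgroup.coe_mul, hx, hy, e2, Subgroup.coe_one]
        rw [← hn n, q, δ1]
      rw [← map_mul, ← map_pow, ← map_pow]
      rcases cube hv hw with q | q
      · exact Or.inl (by rw [hpow 2 q, map_one])
      · exact Or.inr (by rw [hpow 3 q, map_one])
  have δC : ∀ v ∈ C, δ v ∈ C := by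
    intro v hv
    obtain ⟨va, vb⟩ := comm_of_mem hv
    obtain ⟨da, db, dθ⟩ := hδ v va vb
    obtain ⟨p, hp, ep⟩ := h1ptv _ ⟨v, hv, ⟨v, mk va vb⟩, rfl, rfl⟩
    obtain ⟨q, hq, eq⟩ := h2ptv _ ⟨v, hv, ⟨δ v, mk da db⟩, rfl, rfl⟩
    obtain ⟨m, hm⟩ := ptv_transitive hKf hp hq
    obtain ⟨k, rfl⟩ := hψs m
    set v' := (k : G23) * v * (k : G23)⁻¹ with hv'
    have hv'C : v' ∈ C := conj_mem_C (un k).1 (un k).2 hv
    obtain ⟨va', vb'⟩ := comm_of_mem hv'C
    have e1 : ψ ((⟨v', mk va' vb'⟩ : ↥(Subgroup.centralizer ({pa, pb} : Set G23)))⁻¹ *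
        ⟨δ v, mk da db⟩) = 1 := by
      rw [show (⟨v', mk va' vb'⟩ : ↥(Subgroup.centralizer ({pa, pb} : Set G23))) =
        k * ⟨v, mk va vb⟩ * k⁻¹ from rfl, map_mul, map_inv, map_mul, map_mul, map_inv, ep, hm, ← eq,
        inv_mul_cancel]
    obtain ⟨c1, c2, c3, c4⟩ := h.cls3 F hv'C
    obtain ⟨sa, sb⟩ := sg_conj_comm va vb
    obtain ⟨d1, -, -, d4⟩ := h.cls3 F (sg_mem_C hv)
    have hmain : IsConj t (θ (δ v)) := by
      rw [dθ]; exact d1.trans (isConj_iff.2 ⟨g, rfl⟩)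
    have hnot : ¬ IsConj t (θ (δ v * (pa * pb))) := by
      rw [h.mul da ((Commute.refl pa).mul_left hpb), dθ, h.mul (Commute.refl pa) hpb, h.ta, h.tb]
      intro r
      refine d4 (r.trans (isConj_iff.2 ⟨g⁻¹, ?_⟩))
      rw [h.mul sa ((Commute.refl pa).mul_left hpb), h.mul (Commute.refl pa) hpb, h.ta, h.tb, inv_inv]
      calc g⁻¹ * (g * θ (sg * v * sg) * g⁻¹ * (t * e)) * g
          = θ (sg * v * sg) * (g⁻¹ * t * g) * (g⁻¹ * e * g) := by group
        _ = θ (sg * v * sg) * e * t := by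
            rw [show g⁻¹ * t * g = e by rw [← hge]; group,
              show g⁻¹ * e * g = t by rw [← hgt]; group]
        _ = _ := by rw [mul_assoc, F.te.symm.eq]
    have hv2 : ∀ w, δ v = v' * w → (δ v * (pa * pb)) = v' * (w * (pa * pb)) := fun w q => by
      rw [q, mul_assoc]
    have haa := tt23.sq pa pa_mem
    have hbb := tt23.sq pb pb_mem
    rcases (hψk _).1 e1 with r | r | r | r <;> simp only [Subgroup.coe_mul, Subgroup.coe_inv] at r <;>
      rw [inv_mul_eq_iff_eq_mul] at r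
    · rw [r, mul_one]; exact hv'C
    · exfalso; refine hnot ?_
      rw [hv2 _ r, ← mul_assoc pa pa pb, haa, one_mul]; exact c3
    · exfalso; refine hnot ?_
      rw [hv2 _ r, show pb * (pa * pb) = pa * (pb * pb) by
        rw [← mul_assoc, hpb.eq, mul_assoc], hbb, mul_one]; exact c2
    · exfalso; exact c4 (r ▸ hmain)
  -- the map is inner
  have hCcl : Closed C := (closed_nb tt23 pa).inter (closed_nb tt23 pb)
  have hTI : TI δ C C := by
    refine ⟨((Set.toFinite C).injOn_iff_bijOn_of_mapsTo δC).1 fun x hx y hy q =>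
      δinj (comm_of_mem hx).1 (comm_of_mem hx).2 (comm_of_mem hy).1 (comm_of_mem hy).2 q,
      fun p hp q hq => ?_⟩
    obtain ⟨a1, b1⟩ := comm_of_mem hp
    obtain ⟨a2, b2⟩ := comm_of_mem hq
    rw [δmul (a1.mul_left a2) (b1.mul_left b2) a1 b1, δmul a1 b1 a2 b2]
  obtain ⟨F4, iF4, iF4F, hF4, sp, -⟩ := hM23.pair_space pa_mem hab
  obtain ⟨k, hk, ek⟩ := inner_of_values hF4 hCcl sp hTI (fun l hnd hlen hmem hcom => by
      refine hM23.ind l hnd ?_ (by omega) (fun z hz => (hmem z hz).1.1) hcom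
      rintro rfl
      simp at hlen) (fun P Q p hQ o ho π hπ => by
      have hV := fun k : Fin 3 =>
        (wpt_facts hF4 p (Q := Q) (o ^ (k : ℕ)) (π * (o ^ (k : ℕ)) ^ 2)).1
      have hmem : ∀ i, sp.pt (P i) ∈ C := fun i => sp.mem (p.pt i)
      have hmem' : ∀ i, sp.pt (vfr P o π i) ∈ C := fun i => sp.mem (hV i)
      set X := tr3 sp P * tr3 sp (vfr P o π) with hX
      have Xa : Commute X pa := by
        simp only [hX, tr3]
        exact (((comm_of_mem (hmem 0)).1.mul_left (comm_of_mem (hmem 1)).1).mul_left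
          (comm_of_mem (hmem 2)).1).mul_left (((comm_of_mem (hmem' 0)).1.mul_left
          (comm_of_mem (hmem' 1)).1).mul_left (comm_of_mem (hmem' 2)).1)
      have Xb : Commute X pb := by
        simp only [hX, tr3]
        exact (((comm_of_mem (hmem 0)).2.mul_left (comm_of_mem (hmem 1)).2).mul_left
          (comm_of_mem (hmem 2)).2).mul_left (((comm_of_mem (hmem' 0)).2.mul_left
          (comm_of_mem (hmem' 1)).2).mul_left (comm_of_mem (hmem' 2)).2)
      have fix : δ X = X := by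
        rcases hM23.kernel_pair pa_mem hab (mem_nbSub_pa.2 Xa) Xb
          (fun v hv => tr3_central hF4 sp p hQ hCcl ho hπ hv) with r | r | r | r <;> rw [r]
        exacts [δ1, δa, δb, δab]
      refine Eq.trans ?_ fix
      simp only [hX, tr3]
      obtain ⟨a0, b0⟩ := comm_of_mem (hmem 0)
      obtain ⟨a1, b1⟩ := comm_of_mem (hmem 1)
      obtain ⟨a2, b2⟩ := comm_of_mem (hmem 2)
      obtain ⟨a0', b0'⟩ := comm_of_mem (hmem' 0)
      obtain ⟨a1', b1'⟩ := comm_of_mem (hmem' 1)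
      obtain ⟨a2', b2'⟩ := comm_of_mem (hmem' 2)
      rw [δmul ((a0.mul_left a1).mul_left a2) ((b0.mul_left b1).mul_left b2)
        ((a0'.mul_left a1').mul_left a2') ((b0'.mul_left b1').mul_left b2'),
        δmul (a0.mul_left a1) (b0.mul_left b1) a2 b2, δmul a0 b0 a1 b1,
        δmul (a0'.mul_left a1') (b0'.mul_left b1') a2' b2', δmul a0' b0' a1' b1'])
  have hcl : Subgroup.closure C = Subgroup.centralizer ({pa, pb} : Set G23) :=
    (hM23.cent_pair pa_mem hab).symm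
  obtain ⟨ka, kb⟩ := un ⟨k, hcl ▸ hk⟩
  have δall : ∀ x, Commute x pa → Commute x pb → δ x = k * x * k⁻¹ := by
    intro x xa xb
    have hx : x ∈ Subgroup.closure C := hcl.symm ▸ mk xa xb
    clear xa xb
    induction hx using Subgroup.closure_induction with
    | mem v hv => exact ek v hv
    | one => rw [δ1]; group
    | mul p q hp hq ep eq =>
      obtain ⟨p1, p2⟩ := un ⟨p, hcl ▸ hp⟩
      obtain ⟨q1, q2⟩ := un ⟨q, hcl ▸ hq⟩
      rw [δmul p1 p2 q1 q2, ep, eq]; group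
    | inv p hp ep =>
      obtain ⟨p1, p2⟩ := un ⟨p, hcl ▸ hp⟩
      have := δmul p1.inv_left p2.inv_left p1 p2
      rw [inv_mul_cancel, δ1, ep] at this
      rw [eq_inv_of_mul_eq_one_left this.symm]
      group
  set s0 := (θ k)⁻¹ * g with hs0
  have hs : ∀ x, Commute x pa → Commute x pb → s0 * θ x * s0⁻¹ = θ (sg * x * sg) := by
    intro x xa xb
    obtain ⟨ya, yb⟩ := sg_conj_comm xa xb
    obtain ⟨-, -, r⟩ := hδ _ ya yb
    rw [δall _ ya yb, sg_conj_conj, h.conj ka ya] at r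
    calc s0 * θ x * s0⁻¹ = (θ k)⁻¹ * (g * θ x * g⁻¹) * θ k := by rw [hs0]; group
      _ = _ := by rw [← r]; group
  have st0 : s0 * t * s0⁻¹ = e := by
    rw [← h.ta, hs pa (Commute.refl pa) hab.2.2, sg_a, h.tb]
  have se0 : s0 * e * s0⁻¹ = t := by
    rw [← h.tb, hs pb hpb (Commute.refl pb), sg_b, h.ta]
  have hsq : ∀ x, Commute x pa → Commute x pb → Commute (s0 * s0) (θ x) := by
    intro x xa xb
    obtain ⟨ya, yb⟩ := sg_conj_comm xa xb
    refine mul_inv_eq_iff_eq_mul.1 ?_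
    rw [show s0 * s0 * θ x * (s0 * s0)⁻¹ = s0 * (s0 * θ x * s0⁻¹) * s0⁻¹ by group, hs x xa xb,
      hs _ ya yb, sg_conj_conj]
  obtain ⟨w, wa, wb, hw⟩ := h.cen_te F (h.ta ▸ hsq pa (Commute.refl pa) hab.2.2)
    (h.tb ▸ hsq pb hpb (Commute.refl pb))
  have wfix : sg * w * sg = w := by
    refine h.inj (sg_conj_comm wa wb).1 wa ?_
    rw [← hs w wa wb, hw]
    group
  have finish : ∀ s, s * s = 1 →
      (∀ x, Commute x pa → Commute x pb → s * θ x * s⁻¹ = θ (sg * x * sg)) → Edge t e θ s := by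
    intro s ss hc
    have si : s⁻¹ = s := inv_eq_of_mul_eq_one_left ss
    refine ⟨ss, ?_, fun x xa xb => ?_⟩
    · have := hc pa (Commute.refl pa) hab.2.2
      rwa [si, h.ta, sg_a, h.tb] at this
    · rw [← hc x xa xb, si]
  rcases hM23.kernel_pair pa_mem hab (mem_nbSub_pa.2 wa) wb (fun v hv => by
      obtain ⟨va, vb⟩ := comm_of_mem hv
      exact (h.comm wa va).1 (hw ▸ hsq v va vb)) with r | r | r | r
  · exact ⟨s0, finish s0 (by rw [← hw, r, h.one]) hs⟩
  · rw [r, sg_a] at wfix; exact absurd wfix.symm pa_ne_pb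
  · rw [r, sg_b] at wfix; exact absurd wfix pa_ne_pb
  · have e0 : s0 * s0 = t * e := by rw [← hw, r, h.mul (Commute.refl pa) hpb, h.ta, h.tb]
    refine ⟨s0 * t, finish _ ?_ fun x xa xb => ?_⟩
    · calc s0 * t * (s0 * t) = (s0 * t * s0⁻¹) * (s0 * s0) * t := by group
        _ = e * (t * e) * t := by rw [st0, e0]
        _ = 1 := by rw [F.te.eq, ← mul_assoc, F.ee, one_mul, F.tt]
    · rw [← hs x xa xb]
      calc s0 * t * θ x * (s0 * t)⁻¹ = s0 * (t * θ x) * t⁻¹ * s0⁻¹ := by group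
        _ = _ := by rw [← (h.commute_t xa).eq]; group

end Theta

end Cfsg.Agent.H41.Fi24Rec
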