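import Cfsg.Agent.H93.Exist.Fi23Type
import Cfsg.Agent.H61.Glue.Level23
import Cfsg.Agent.H41.Fi24Rec.Chain

/-!
The path of seven letters of the presented Fi23 and the transitivity on common neighbours used along it.
-/

set_option autoImplicit false
set_option maxRecDepth 8000

namespace Cfsg.Agent.H41.Fi24Rec

open Cfsg.Spor Cfsg.Agent.H93 Cfsg.Agent.H93.Exist

local instance finG23 : Finite G23 := Cfsg.Agent.H25.Fi23.order_facts.1

/-- type M(23) of the presented group -/
theorem hM23 : M23Data D23 := m23data class23 type23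

/-- the geometry of the presented group -/
theorem hG23 : Geo23 D23 := geo23 class23 type23

theorem gen_braid {y z : Fi23.Gen} (h : coxLabel Fi23.edges y z = 3) :
    gen y * gen z * gen y = gen z * gen y * gen z := by
  have h3 := gen_cox y z
  rw [h] at h3
  have e : gen y * gen z * gen y * (gen z * gen y * gen z) = 1 := by
    rw [← h3, pow_succ, pow_two]; group
  rw [eq_inv_of_mul_eq_one_left e]
  simp only [mul_inv_rev, inv_eq_of_mul_eq_one_right (gen_sq y),
    inv_eq_of_mul_eq_one_right (gen_sq z)]
  group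

theorem gen_comm {y z : Fi23.Gen} (h : coxLabel Fi23.edges y z = 2) : Commute (gen y) (gen z) :=
  tt23.commute_of_sq (gen_mem y) (gen_mem z) (by rw [← h]; exact gen_cox y z)

theorem gen_path {p q r : Fi23.Gen} (h1 : coxLabel Fi23.edges p q = 3)
    (h2 : coxLabel Fi23.edges q r = 3) (h3 : coxLabel Fi23.edges p r = 2) :
    Path3 (gen p) (gen q) (gen r) :=
  ⟨gen_sq p, gen_sq q, gen_sq r, gen_comm h3, gen_braid h1, gen_braid h2⟩

theorem no_triangle : ∀ y z w : Fi23.Gen, coxLabel Fi23.edges y z = 3 →
    w = y ∨ w = z ∨ coxLabel Fi23.edges y w = 2 ∨ coxLabel Fi23.edges z w = 2 := by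
  intro y z w; cases y <;> cases z <;> cases w <;> decide

theorem label_cases : ∀ y z : Fi23.Gen, y = z ∨ coxLabel Fi23.edges y z = 2 ∨
    coxLabel Fi23.edges y z = 3 := by
  intro y z; cases y <;> cases z <;> decide

theorem exists_witness : ∀ y z : Fi23.Gen, coxLabel Fi23.edges y z = 2 →
    ∃ w ∈ [Fi23.Gen.a, .b, .c, .d, .e, .f, .g, .j, .h, .i],
      (coxLabel Fi23.edges y w = 3 ∧ coxLabel Fi23.edges w z = 2) ∨
        (coxLabel Fi23.edges z w = 3 ∧ coxLabel Fi23.edges w y = 2) := by
  intro y z
  cases y <;> cases z <;> decide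

theorem eq_of_commute {y z : Fi23.Gen} (h : coxLabel Fi23.edges y z = 3)
    (hc : Commute (gen y) (gen z)) : gen y = gen z := by
  have b := gen_braid h
  rw [hc.eq, mul_assoc, gen_sq, mul_one, ← hc.eq, mul_assoc, gen_sq, mul_one] at b
  exact b.symm

theorem adj_ne {y z : Fi23.Gen} (h : coxLabel Fi23.edges y z = 3) : gen y ≠ gen z := by
  intro e
  have step : ∀ u v : Fi23.Gen, coxLabel Fi23.edges u v = 3 → gen u = gen y → gen v = gen y := by
    intro u v huv eu
    rcases no_triangle y z v h with rfl | rfl | q | q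
    · rfl
    · exact e.symm
    · exact ((eq_of_commute huv (eu.symm ▸ gen_comm q)).symm).trans eu
    · exact ((eq_of_commute huv ((eu.trans e).symm ▸ gen_comm q)).symm).trans eu
  have it : ∀ u v : Fi23.Gen, coxLabel Fi23.edges u v = 3 → coxLabel Fi23.edges v u = 3 →
      (gen u = gen y ↔ gen v = gen y) := fun u v h1 h2 => ⟨step u v h1, step v u h2⟩
  have hab := it .a .b (by decide) (by decide)
  have hbc := it .b .c (by decide) (by decide)
  have hcd := it .c .d (by decide) (by decide)
  have hde := it .d .e (by decide) (by decide)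
  have hef := it .e .f (by decide) (by decide)
  have hfg := it .f .g (by decide) (by decide)
  have hgj := it .g .j (by decide) (by decide)
  have hdh := it .d .h (by decide) (by decide)
  have hhi := it .h .i (by decide) (by decide)
  have hd : gen .d = gen y := by cases y <;> tauto
  have hall : ∀ w, gen w = gen y := by intro w; cases w <;> tauto
  have htop : ∀ g : G23, Commute g (gen y) := by
    intro g
    have hg : g ∈ Subgroup.closure (Set.range (PresentedGroup.of : Fi23.Gen → G23)) :=
      PresentedGroup.closure_range_of _ ▸ Subgroup.mem_top g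
    induction hg using Subgroup.closure_induction with
    | mem x hx =>
      obtain ⟨w, rfl⟩ := hx
      show Commute (gen w) (gen y)
      rw [hall w]
    | one => exact Commute.one_left _
    | mul a b _ _ ha hb => exact ha.mul_left hb
    | inv a _ ha => exact ha.inv_left
  have hc : gen y ∈ Subgroup.center G23 := Subgroup.mem_center_iff.2 fun g => (htop g).eq
  rw [center23, Subgroup.mem_bot] at hc
  exact hM23.core.ne_one _ (gen_mem y) hc

theorem gen_ne {y z : Fi23.Gen} (h : y ≠ z) : gen y ≠ gen z := by
  intro e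
  rcases label_cases y z with q | q | q
  · exact h q
  · obtain ⟨w, -, ⟨h1, h3⟩ | ⟨h4, h5⟩⟩ := exists_witness y z q
    · exact adj_ne h1 (eq_of_commute h1 (e.symm ▸ (gen_comm h3).symm))
    · exact adj_ne h4 (eq_of_commute h4 (e ▸ (gen_comm h5).symm))
  · exact adj_ne q e

/-- first member -/
def pa : G23 := gen .a
/-- between the first two -/
def pw : G23 := gen .b
/-- second member -/
def pb : G23 := gen .c
/-- between the second and third -/
def pv : G23 := gen .d
/-- third member -/
def pc : G23 := gen .e
/-- between the third and fourth -/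
def pu : G23 := gen .f
/-- fourth member -/
def pg : G23 := gen .g

theorem pa_mem : pa ∈ D23 := gen_mem _
theorem pb_mem : pb ∈ D23 := gen_mem _
theorem pc_mem : pc ∈ D23 := gen_mem _
theorem pg_mem : pg ∈ D23 := gen_mem _

theorem hab : pb ∈ nb D23 pa := ⟨pb_mem, gen_ne (by decide), gen_comm (by decide)⟩
theorem hba : pa ∈ nb D23 pb := nb_symm pa_mem hab
theorem hcab : pc ∈ nb D23 pa ∩ nb D23 pb :=
  ⟨⟨pc_mem, gen_ne (by decide), gen_comm (by decide)⟩, pc_mem, gen_ne (by decide), gen_comm (by decide)⟩
theorem hgab : pg ∈ nb D23 pa ∩ nb D23 pb :=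
  ⟨⟨pg_mem, gen_ne (by decide), gen_comm (by decide)⟩, pg_mem, gen_ne (by decide), gen_comm (by decide)⟩
theorem hcg : pg ∈ nb D23 pc := ⟨pg_mem, gen_ne (by decide), gen_comm (by decide)⟩

/-- the exchange of the first two -/
def sg : G23 := swp pa pw pb
/-- the exchange of the second and third -/
def pp : G23 := swp pb pv pc
/-- the exchange of the third and fourth -/
def kp : G23 := swp pc pu pg

theorem path_ab : Path3 pa pw pb := gen_path (by decide) (by decide) (by decide)
theorem path_bc : Path3 pb pv pc := gen_path (by decide) (by decide) (by decide)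
theorem path_cg : Path3 pc pu pg := gen_path (by decide) (by decide) (by decide)

theorem sg_sq : sg * sg = 1 := path_ab.sq
theorem pp_sq : pp * pp = 1 := path_bc.sq
theorem kp_sq : kp * kp = 1 := path_cg.sq

theorem sg_a : sg * pa * sg = pb := path_ab.left
theorem sg_b : sg * pb * sg = pa := path_ab.right
theorem pp_b : pp * pb * pp = pc := path_bc.left
theorem pp_c : pp * pc * pp = pb := path_bc.right
theorem kp_c : kp * pc * kp = pg := path_cg.left
theorem kp_g : kp * pg * kp = pc := path_cg.right

theorem sg_c : Commute sg pc :=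
  swp_commute (gen_comm (by decide)) (gen_comm (by decide)) (gen_comm (by decide))
theorem sg_g : Commute sg pg :=
  swp_commute (gen_comm (by decide)) (gen_comm (by decide)) (gen_comm (by decide))
theorem pp_a : Commute pp pa :=
  swp_commute (gen_comm (by decide)) (gen_comm (by decide)) (gen_comm (by decide))
theorem pp_g : Commute pp pg :=
  swp_commute (gen_comm (by decide)) (gen_comm (by decide)) (gen_comm (by decide))
theorem kp_a : Commute kp pa :=
  swp_commute (gen_comm (by decide)) (gen_comm (by decide)) (gen_comm (by decide))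
theorem kp_b : Commute kp pb :=
  swp_commute (gen_comm (by decide)) (gen_comm (by decide)) (gen_comm (by decide))
theorem kp_w : Commute kp pw :=
  swp_commute (gen_comm (by decide)) (gen_comm (by decide)) (gen_comm (by decide))

theorem sg_kp : Commute sg kp := swp_commute kp_a.symm kp_w.symm kp_b.symm

theorem braid_sp : sg * pp * sg = pp * sg * pp :=
  swp_braid path_ab path_bc (gen_comm (by decide)) (gen_comm (by decide)) (gen_comm (by decide))
    (gen_comm (by decide))

theorem braid_pk : pp * kp * pp = kp * pp * kp :=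
  swp_braid path_bc path_cg (gen_comm (by decide)) (gen_comm (by decide)) (gen_comm (by decide))
    (gen_comm (by decide))

/-- the centraliser of the first two is transitive on their common neighbours -/
theorem trans2 {v v' : G23} (hv : v ∈ nb D23 pa ∩ nb D23 pb) (hv' : v' ∈ nb D23 pa ∩ nb D23 pb) :
    ∃ k, Commute k pa ∧ Commute k pb ∧ k * v * k⁻¹ = v' := by
  have htt := hM23.core.tt
  have step : ∀ {p q : G23}, p ∈ nb D23 pa ∩ nb D23 pb → q ∈ nb D23 pa ∩ nb D23 pb →
      ¬ Commute p q → ∃ k, Commute k pa ∧ Commute k pb ∧ k * p * k⁻¹ = q := fun {p q} hp hq hn =>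
    ⟨p * q, (hp.1.2.2.symm).mul_left hq.1.2.2.symm, (hp.2.2.2.symm).mul_left hq.2.2.2.symm, by
      rw [mul_inv_rev, htt.inv_eq hp.1.1, htt.inv_eq hq.1.1,
        show p * q * p * (q * p) = (p * q * p) * q * p by group, htt.braid hp.1.1 hq.1.1 hn,
        show q * p * q * q * p = q * p * (q * q) * p by group, htt.sq q hq.1.1, mul_one, mul_assoc,
        htt.sq p hp.1.1, mul_one]⟩
  by_cases h : Commute v v'
  · by_cases e : v = v'
    · exact ⟨1, Commute.one_left _, Commute.one_left _, by rw [e]; group⟩
    · obtain ⟨F, iF, iFF, h22, -⟩ := hM23.res pa pa_mem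
      have cm := fun {x} (hx : x ∈ nb D23 pa ∩ nb D23 pb) =>
        hM23.core.rimg_nb pa_mem hab ⟨hx.1, hx.2⟩
      obtain ⟨w', hw', n1, n2⟩ := h22.sep _ (rimg_mem hab) _ (cm hv) _ (cm hv')
        (fun q => e ((hM23.core.rimg_inj pa_mem hv.1 hv'.1).mp q))
        ((hM23.core.rimg_comm hv.1 hv'.1).mpr h)
      obtain ⟨w, hw, rfl⟩ := hM23.core.rimg_nb_surj pa_mem hab hw'
      have hwC : w ∈ nb D23 pa ∩ nb D23 pb := ⟨hw.1, hw.2⟩
      obtain ⟨k1, a1, b1, e1⟩ := step hv hwC fun q =>
        n1 ((hM23.core.rimg_comm hw.1 hv.1).mpr q.symm)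
      obtain ⟨k2, a2, b2, e2⟩ := step hwC hv' fun q =>
        n2 ((hM23.core.rimg_comm hw.1 hv'.1).mpr q)
      exact ⟨k2 * k1, a2.mul_left a1, b2.mul_left b1, by rw [← e2, ← e1]; group⟩
  · exact step hv hv' h

end Cfsg.Agent.H41.Fi24Rec
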