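import Cfsg.Agent.H93.Exist.Fi24Facts
import Cfsg.Agent.H61.M24.Count
import Cfsg.Agent.H41.Fi24Rec.Letters

/-!
The presented Fi24: its subgroup of index two on the class of the first letter, the stabiliser being the
presented Fi23, and the exchange of the first member and the next on the path.
-/

set_option autoImplicit false
set_option maxRecDepth 8000

namespace Cfsg.Agent.H41.Fi24Rec

open Cfsg.Spor Cfsg.Agent.H93 Cfsg.Agent.H93.Exist
open scoped commutatorElement

attribute [local instance] finG23

local instance finX24 : Finite Fi24 := Cfsg.Agent.H25.Fi24.finite_X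

/-- the first member -/
def L24 : Fi24 := gen24 .l

/-- the map of the presented Fi23 -/
noncomputable def ph : G23 →* Fi24 := Cfsg.Agent.H25.Fi24.phi

/-- the class -/
def E24 : Set Fi24 := conjugatesOf L24

theorem inp : M24Input E24 L24 (gen24 .k) ph := Core24.counts.input

theorem ph_gen (y : Fi23.Gen) : ph (gen y) = gen24 (up24 y) * L24 := Core24.phi_gen y

theorem type_24 : Cfsg.IsOfTypeM24 Fi24 E24 := inp.type24

theorem geo_24 : H61.M24.Geo24 E24 :=
  H61.M24.geo24 ⟨inp.cls.1, inp.tt.conj_mem, inp.cls.2.2⟩ inp.prim type_24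

theorem L24_sq : L24 * L24 = 1 := gen24_sq _

theorem L24_mem : L24 ∈ E24 := mem_conjugatesOf_self

theorem two_mem {x y : Fi24} (hx : x ∈ E24) (hy : y ∈ E24) : x * y ∈ commutator Fi24 := by
  obtain ⟨g, rfl⟩ := isConj_iff.1 ((IsConj.symm hx).trans hy)
  have h := Subgroup.commutator_mem_commutator (Subgroup.mem_top x) (Subgroup.mem_top g)
  rwa [← commutator_def, commutatorElement_def, inp.tt.inv_eq hx,
    show x * g * x * g⁻¹ = x * (g * x * g⁻¹) by group] at h

theorem conj_two_mem {g x y : Fi24} (hx : x ∈ E24) (hy : y ∈ E24) :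
    g * (x * y) * g⁻¹ ∈ commutator Fi24 := by
  rw [show g * (x * y) * g⁻¹ = g * x * g⁻¹ * (g * y * g⁻¹) by group]
  exact two_mem (inp.tt.conj_mem g x hx) (inp.tt.conj_mem g y hy)

theorem G23_perfect : commutator G23 = ⊤ := by
  have : IsSimpleGroup G23 := Cfsg.Agent.H25.Fi23.isFi23.1
  rcases this.eq_bot_or_eq_top_of_normal (commutator G23) inferInstance with h | h
  · exfalso
    have hc : pa ∈ Subgroup.center G23 := Subgroup.mem_center_iff.2 fun g => by
      have h1 : ⁅g, pa⁆ ∈ (⊥ : Subgroup G23) := h ▸ (commutator_def G23 ▸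
        Subgroup.commutator_mem_commutator (Subgroup.mem_top g) (Subgroup.mem_top pa))
      exact commutatorElement_eq_one_iff_mul_comm.1 (Subgroup.mem_bot.1 h1)
    rw [center23, Subgroup.mem_bot] at hc
    exact hM23.core.ne_one _ pa_mem hc
  · exact h

theorem phi_mem (x : G23) : ph x ∈ commutator Fi24 := by
  have h := Subgroup.mem_map_of_mem ph (G23_perfect ▸ Subgroup.mem_top x : x ∈ commutator G23)
  rw [commutator_def, Subgroup.map_commutator] at h
  rw [commutator_def]
  exact Subgroup.commutator_mono le_top le_top h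

theorem L24_not_mem : L24 ∉ commutator Fi24 := by
  obtain ⟨σ, hσ⟩ := parity
  intro h
  have h1 : commutator Fi24 ≤ σ.ker := Abelianization.commutator_subset_ker σ
  have := MonoidHom.mem_ker.1 (h1 h)
  rw [L24, hσ] at this
  exact absurd this (by decide)

theorem stab24 {g : Fi24} (hg : g ∈ commutator Fi24) (hc : Commute g L24) : ∃ x, g = ph x := by
  obtain ⟨x, rfl | rfl⟩ := inp.cl g hc.symm
  · exact ⟨x, rfl⟩
  · refine absurd ?_ L24_not_mem
    have := mul_mem (inv_mem (phi_mem x)) hg
    rwa [inv_mul_cancel_left] at this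

theorem phi_letter (y : Fi23.Gen) : ph (gen y) * L24 = gen24 (up24 y) := by
  rw [ph_gen]
  show gen24 (up24 y) * L24 * L24 = _
  rw [mul_assoc, L24_sq, mul_one]

theorem phi_pa : ph pa * L24 = gen24 .a := phi_letter .a
theorem phi_pb : ph pb * L24 = gen24 .c := phi_letter .c
theorem phi_pw : ph pw * L24 = gen24 .b := phi_letter .b

theorem mem24 {d : G23} (hd : d ∈ D23) : ph d * L24 ∈ E24 := (inp.member hd).1

theorem gen24_braid {y z : Fi24.Gen} (h : coxLabel Fi24.edges y z = 3) :
    gen24 y * gen24 z * gen24 y = gen24 z * gen24 y * gen24 z := by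
  have h3 := gen24_cox y z
  rw [h] at h3
  have e : gen24 y * gen24 z * gen24 y * (gen24 z * gen24 y * gen24 z) = 1 := by
    rw [← h3, pow_succ, pow_two]; group
  rw [eq_inv_of_mul_eq_one_left e]
  simp only [mul_inv_rev, inv_eq_of_mul_eq_one_right (gen24_sq y),
    inv_eq_of_mul_eq_one_right (gen24_sq z)]
  group

theorem gen24_path {p q r : Fi24.Gen} (h1 : coxLabel Fi24.edges p q = 3)
    (h2 : coxLabel Fi24.edges q r = 3) (h3 : coxLabel Fi24.edges p r = 2) :
    Path3 (gen24 p) (gen24 q) (gen24 r) :=
  ⟨gen24_sq p, gen24_sq q, gen24_sq r, gen24_comm h3, gen24_braid h1, gen24_braid h2⟩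

/-- the exchange of the first member and the second -/
def sig : Fi24 := swp (gen24 .l) (gen24 .k) (gen24 .a)

theorem path_lka : Path3 (gen24 .l) (gen24 .k) (gen24 .a) :=
  gen24_path (by decide) (by decide) (by decide)

theorem path_abc : Path3 (gen24 .a) (gen24 .b) (gen24 .c) :=
  gen24_path (by decide) (by decide) (by decide)

theorem sig_sq : sig * sig = 1 := path_lka.sq

theorem sig_inv : (sig : Fi24)⁻¹ = sig := inv_eq_of_mul_eq_one_left sig_sq

theorem sig_mem : sig ∈ commutator Fi24 := by
  have h := conj_two_mem (g := gen24 .k) L24_mem (phi_pa ▸ mem24 pa_mem)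
  rwa [inv_eq_of_mul_eq_one_left (gen24_sq Fi24.Gen.k)] at h

theorem sig_l : sig * L24 * sig = gen24 .a := path_lka.left
theorem sig_a : sig * gen24 .a * sig = L24 := path_lka.right

theorem sig_c : Commute sig (gen24 .c) :=
  swp_commute (gen24_comm (by decide)) (gen24_comm (by decide)) (gen24_comm (by decide))

theorem phi_swp (p q r : G23) :
    ph (swp p q r) = swp (ph p * L24) (ph q * L24) (ph r * L24) := by
  have hl : ∀ x, Commute L24 (ph x) := inp.comm
  rw [swp_map, swp, swp]
  have e : ph p * L24 * (ph r * L24) = ph p * ph r := by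
    rw [mul_assoc, ← mul_assoc L24, (hl r).eq, mul_assoc (ph r), L24_sq, mul_one]
  calc ph q * (ph p * ph r) * ph q
      = ph q * (L24 * (ph p * ph r) * L24) * ph q := by
        rw [((hl p).mul_right (hl r)).eq, mul_assoc (ph p * ph r), L24_sq, mul_one]
    _ = ph q * L24 * (ph p * ph r) * (L24 * ph q) := by group
    _ = ph q * L24 * (ph p * L24 * (ph r * L24)) * (ph q * L24) := by rw [e, (hl q).eq]

theorem phi_sg : ph sg = swp (gen24 .a) (gen24 .b) (gen24 .c) := by
  rw [sg, phi_swp, phi_pa, phi_pb, phi_pw]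

theorem phi_pp : ph pp = swp (gen24 .c) (gen24 .d) (gen24 .e) := by
  rw [pp, phi_swp, show pb = gen .c from rfl, show pv = gen .d from rfl, show pc = gen .e from rfl,
    phi_letter, phi_letter, phi_letter]
  rfl

theorem braid_24 : sig * ph sg * sig = ph sg * sig * ph sg := by
  rw [phi_sg]
  exact swp_braid path_lka path_abc (gen24_comm (by decide)) (gen24_comm (by decide))
    (gen24_comm (by decide)) (gen24_comm (by decide))

theorem sig_pp : Commute sig (ph pp) := by
  rw [phi_pp]
  have h : ∀ y, coxLabel Fi24.edges .l y = 2 → coxLabel Fi24.edges .k y = 2 →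
      coxLabel Fi24.edges .a y = 2 → Commute sig (gen24 y) := fun y e1 e2 e3 =>
    swp_commute (gen24_comm e1) (gen24_comm e2) (gen24_comm e3)
  exact (swp_commute (h .c (by decide) (by decide) (by decide)).symm
    (h .d (by decide) (by decide) (by decide)).symm
    (h .e (by decide) (by decide) (by decide)).symm).symm

theorem sig_pa : sig * ph pa * sig = ph pa := by
  have e : ph pa = gen24 .a * L24 := by rw [← phi_pa, mul_assoc, L24_sq, mul_one]
  rw [e, show sig * (gen24 .a * L24) * sig = sig * gen24 .a * (sig * sig) * L24 * sig by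
      rw [sig_sq, mul_one]; group,
    show sig * gen24 .a * (sig * sig) * L24 * sig = sig * gen24 .a * sig * (sig * L24 * sig) by group,
    sig_a, sig_l]
  exact (gen24_comm (by decide) : Commute (gen24 Fi24.Gen.l) (gen24 Fi24.Gen.a)).eq

theorem sig_pb : sig * ph pb * sig = ph (pa * pb) := by
  have e : ph pb = gen24 .c * L24 := by rw [← phi_pb, mul_assoc, L24_sq, mul_one]
  have hAC : Commute (gen24 Fi24.Gen.a) (gen24 Fi24.Gen.c) := gen24_comm (by decide)
  have e' : ph pa * L24 * (ph pb * L24) = ph pa * ph pb := by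
    rw [mul_assoc, ← mul_assoc L24, (inp.comm pb).eq, mul_assoc (ph pb), L24_sq, mul_one]
  calc sig * ph pb * sig = sig * gen24 .c * L24 * sig := by rw [e]; group
    _ = gen24 .c * (sig * L24 * sig) := by rw [sig_c.eq]; group
    _ = gen24 .a * gen24 .c := by rw [sig_l, hAC.eq]
    _ = _ := by rw [map_mul, ← e', phi_pa, phi_pb]

/-- the edge group is normalised -/
theorem exists_nu (x : G23) (hx : Commute x pa) :
    ∃ x', Commute x' pa ∧ ph x' = sig * ph x * sig := by
  have hb : Commute (ph x) (gen24 .a) := by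
    rw [← phi_pa]; exact (hx.map ph).mul_right (inp.comm x).symm
  have hc : Commute (sig * ph x * sig) L24 := by
    have := commute_conj (g := sig).2 hb
    rwa [sig_inv, sig_a] at this
  have hm : sig * ph x * sig ∈ commutator Fi24 :=
    mul_mem (mul_mem sig_mem (phi_mem x)) sig_mem
  obtain ⟨x', e⟩ := stab24 hm hc
  refine ⟨x', inp.inj.eq_iff.1 ?_, e.symm⟩
  rw [map_mul, map_mul, ← e]
  have := commute_conj (g := sig).2 (hx.map ph)
  rwa [sig_inv, sig_pa] at this

end Cfsg.Agent.H41.Fi24Rec
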