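import Cfsg.Agent.H41.Fi24Rec.Level23
import Cfsg.Agent.H41.Fi24Rec.Mod24
import Cfsg.Agent.H33.AutLFi.Ext

/-!
The involution extending the automorphism of the double cover induced by the exchange of the first two
members in the presented Fi24, and its braid relation.
-/

set_option autoImplicit false
set_option maxRecDepth 8000

namespace Cfsg.Agent.H41.Fi24Rec

open Cfsg.Agent.H93 Cfsg.Agent.H93.Exist

attribute [local instance] finG23

universe u

variable {G : Type u} [Group G] [Finite G] {t e : G} {K : Subgroup G}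

omit [Finite G] in
/-- the quasisimple part is normal in the centraliser -/
theorem Facts.normal (F : Facts t e K) {u k : G} (hu : Commute u t) (hk : k ∈ K) :
    u * k * u⁻¹ ∈ K := by
  by_cases hK : u ∈ K
  · exact mul_mem (mul_mem hK hk) (inv_mem hK)
  · refine F.two (u * k) u⁻¹ (hu.mul_left (F.comm k hk)) hu.inv_left (fun q => hK ?_)
      (fun q => hK (by simpa using inv_mem q))
    simpa using mul_mem q (inv_mem hk)

theorem G23_prod_ne {x : G23} (hx : x ∈ D23) (hxa : Commute x pa) (hxb : Commute x pb)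
    (h1 : x ≠ pa) (h2 : x ≠ pb) : x * pa * pb ≠ 1 := by
  intro q
  refine hM23.ind [x, pa, pb] ?_ (by simp) (by simp) ?_ ?_ ?_
  · simp [h1, h2, pa_ne_pb]
  · simp [hx, pa_mem, pb_mem]
  · have hab' : Commute pa pb := hab.2.2
    simp only [List.mem_cons, List.not_mem_nil, or_false]
    rintro a (rfl | rfl | rfl) b (rfl | rfl | rfl)
    exacts [Commute.refl _, hxa, hxb, hxa.symm, Commute.refl _, hab', hxb.symm, hab'.symm,
      Commute.refl _]
  · simpa [mul_assoc] using q

set_option maxHeartbeats 800000 in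
/-- the involution over the exchange -/
theorem exists_edge24 (F : Facts t e K) {l : G23 →* G} (linj : Function.Injective l)
    (lta : l pa = t) (ltb : l pb = e) (lmem : ∀ x, Commute x pa → l x ∈ K)
    (lsurj : ∀ k ∈ K, ∃ x, Commute x pa ∧ l x = k) :
    ∃ s : G, s * s = 1 ∧ Commute s t ∧ s ∉ K ∧
      (∀ x x', Commute x pa → ph x' = sig * ph x * sig → l x' = s * l x * s) ∧
      s * l sg * s = l sg * s * l sg := by
  classical
  have hex : ∀ x, ∃ x', Commute x pa → Commute x' pa ∧ ph x' = sig * ph x * sig := fun x => by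
    by_cases hx : Commute x pa
    · obtain ⟨x', h⟩ := exists_nu x hx; exact ⟨x', fun _ => h⟩
    · exact ⟨1, fun q => absurd q hx⟩
  choose ν hν using hex
  have νa : ν pa = pa := inp.inj ((hν pa (Commute.refl pa)).2.trans sig_pa)
  have νb : ν pb = pa * pb := inp.inj ((hν pb hab.2.2.symm).2.trans sig_pb)
  have νν : ∀ {x}, Commute x pa → ν (ν x) = x := by
    intro x hx
    refine inp.inj ?_
    rw [(hν _ (hν x hx).1).2, (hν x hx).2,
      show sig * (sig * ph x * sig) * sig = sig * sig * ph x * (sig * sig) by group, sig_sq, one_mul,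
      mul_one]
  have νmul : ∀ {x y}, Commute x pa → Commute y pa → ν (x * y) = ν x * ν y := by
    intro x y hx hy
    refine inp.inj ?_
    rw [(hν _ (hx.mul_left hy)).2, map_mul, map_mul, (hν x hx).2, (hν y hy).2,
      show sig * ph x * sig * (sig * ph y * sig) = sig * ph x * (sig * sig) * ph y * sig by group,
      sig_sq, mul_one]
    group
  -- the automorphism of the double cover
  have hκ : ∀ k : ↥K, ∃ k' : ↥K, ∀ x, Commute x pa → l x = k → (k' : G) = l (ν x) := fun k => by
    obtain ⟨x, hx, e1⟩ := lsurj k k.2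
    exact ⟨⟨l (ν x), lmem _ (hν x hx).1⟩, fun y hy e2 => by rw [linj (e2.trans e1.symm)]⟩
  choose κ hκ using hκ
  have κmul : ∀ k k', κ (k * k') = κ k * κ k' := fun k k' => by
    obtain ⟨x, hx, e1⟩ := lsurj k k.2
    obtain ⟨y, hy, e2⟩ := lsurj k' k'.2
    refine Subtype.ext ?_
    rw [hκ (k * k') (x * y) (hx.mul_left hy) (by rw [map_mul, e1, e2]; rfl), νmul hx hy, map_mul,
      ← hκ k x hx e1, ← hκ k' y hy e2]
    rfl
  let t' : ↥K := ⟨t, F.tK⟩
  have κt : κ t' = t' := Subtype.ext (by rw [hκ t' pa (Commute.refl pa) lta, νa, lta])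
  have κκ : ∀ k, κ (κ k) = k := fun k => by
    obtain ⟨x, hx, e1⟩ := lsurj k k.2
    refine Subtype.ext ?_
    rw [hκ _ (ν x) (hν x hx).1 (hκ k x hx e1).symm, νν hx, e1]
  obtain ⟨f, hf, hker, hreal, -⟩ := F.quot
  haveI : Finite Cfsg.Spor.Fi22 := Cfsg.Agent.H45.Fi22Top.order_facts.1
  let κh : ↥K →* ↥K := MonoidHom.mk' κ κmul
  have hkc : f.ker ≤ (f.comp κh).ker := fun k hk => by
    rcases (hker k).1 (MonoidHom.mem_ker.1 hk) with r | r
    · rw [show k = 1 from Subtype.ext r]; exact one_mem _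
    · rw [MonoidHom.mem_ker, show k = t' from Subtype.ext r]
      show f (κ t') = 1
      rw [κt]
      exact (hker t').2 (Or.inr rfl)
  let α0 := f.liftOfSurjective hf ⟨f.comp κh, hkc⟩
  have hα : ∀ k, α0 (f k) = f (κ k) := fun k =>
    MonoidHom.liftOfRightInverse_comp_apply _ _ _ _ k
  have α2 : Function.Involutive α0 := fun m => by
    obtain ⟨k, rfl⟩ := hf m
    rw [hα, hα, κκ]
  obtain ⟨u, hut, hu⟩ := hreal (MulEquiv.ofBijective α0 α2.bijective)
  let c : ↥K → ↥K := fun k => ⟨u * k * u⁻¹, F.normal hut k.2⟩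
  have cmul : ∀ k k', c (k * k') = c k * c k' := fun k k' =>
    Subtype.ext (show u * (k * k' : G) * u⁻¹ = u * k * u⁻¹ * (u * k' * u⁻¹) by group)
  have hd : ∀ k, (c k)⁻¹ * κ k = 1 ∨ (c k)⁻¹ * κ k = t' := fun k => by
    have e1 : f ((c k)⁻¹ * κ k) = 1 := by
      rw [map_mul, map_inv, hu k (c k) rfl]
      show (α0 (f k))⁻¹ * f (κ k) = 1
      rw [hα, inv_mul_cancel]
    exact ((hker _).1 e1).imp Subtype.ext Subtype.ext
  have hcen : ∀ (k m : ↥K), Commute ((c k)⁻¹ * κ k) m := fun k m => by
    rcases hd k with r | r <;> rw [r]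
    · exact Commute.one_left m
    · exact Subtype.ext (F.comm _ m.2).symm.eq
  let dh : ↥K →* ↥K := MonoidHom.mk' (fun k => (c k)⁻¹ * κ k) fun k k' => by
    calc (c (k * k'))⁻¹ * κ (k * k') = (c k')⁻¹ * ((c k)⁻¹ * κ k) * κ k' := by
          rw [cmul, κmul]; group
      _ = _ := by rw [← (hcen k (c k')⁻¹).eq]; group
  have hd1 : ∀ k, (c k)⁻¹ * κ k = 1 := fun k =>
    H33.AutLFi.hom_eq_one (Group.isPerfect_def.2 F.perf) dh (fun a b => (hcen a _).eq) k
  have hu' : ∀ x, Commute x pa → u * l x * u⁻¹ = l (ν x) := fun x hx => by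
    have h1 := congrArg Subtype.val (inv_mul_eq_one.1 (hd1 ⟨l x, lmem x hx⟩))
    rw [hκ _ x hx rfl] at h1
    exact h1
  have usq : u * u = 1 ∨ u * u = t := F.selfc (u * u) fun k hk => by
    obtain ⟨x, hx, rfl⟩ := lsurj k hk
    refine mul_inv_eq_iff_eq_mul.1 ?_
    rw [show u * u * l x * (u * u)⁻¹ = u * (u * l x * u⁻¹) * u⁻¹ by group, hu' x hx,
      hu' _ (hν x hx).1, νν hx]
  have unK : u ∉ K := fun hK => by
    obtain ⟨x0, hx0, rfl⟩ := lsurj u hK
    have e1 : pa * pb = x0 * pb * x0⁻¹ := linj (by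
      rw [← νb, ← hu' pb hab.2.2.symm, map_mul l (x0 * pb), map_mul, map_inv])
    have hd0 : pa * pb ∈ D23 := e1 ▸ tt23.conj_mem x0 pb pb_mem
    refine G23_prod_ne hd0 ((Commute.refl pa).mul_left hab.2.2.symm)
      (hab.2.2.mul_left (Commute.refl pb)) (fun q => ?_) (fun q => ?_) ?_
    · exact hM23.core.ne_one _ pb_mem (mul_eq_left.1 q)
    · exact hM23.core.ne_one _ pa_mem (mul_eq_right.1 q)
    · calc pa * pb * pa * pb = pa * (pb * pa) * pb := by group
        _ = pa * (pa * pb) * pb := by rw [hab.2.2.eq]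
        _ = (pa * pa) * (pb * pb) := by group
        _ = 1 := by rw [tt23.sq pa pa_mem, tt23.sq pb pb_mem, one_mul]
  -- the braid
  set p := l sg with hp
  have pp2 : p * p = 1 := by rw [hp, ← map_mul, sg_sq, map_one]
  let rho : G23 → G23 := fun v => ν (sg * v * sg)
  have hrho : ∀ {v}, Commute v pa → Commute v pb → Commute (rho v) pa ∧ Commute (rho v) pb ∧
      l (rho v) = u * p * l v * (u * p)⁻¹ ∧ ph (rho v) = sig * ph sg * ph v * (ph sg * sig) := by
    intro v va vb
    obtain ⟨a', b'⟩ := sg_conj_comm va vb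
    obtain ⟨n1, n2⟩ := hν _ a'
    refine ⟨n1, ?_, ?_, ?_⟩
    · have h1 : Commute (rho v) (ν pb) := by
        show ν (sg * v * sg) * ν pb = ν pb * ν (sg * v * sg)
        rw [← νmul a' hab.2.2.symm, ← νmul hab.2.2.symm a', b'.eq]
      have h2 : Commute (rho v) (pa * (pa * pb)) := n1.mul_right (νb ▸ h1)
      rwa [← mul_assoc, tt23.sq pa pa_mem, one_mul] at h2
    · show l (ν (sg * v * sg)) = _
      rw [← hu' _ a', map_mul, map_mul, mul_inv_rev, inv_eq_of_mul_eq_one_left pp2, ← hp]
      group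
    · show ph (ν (sg * v * sg)) = _
      rw [n2, map_mul, map_mul]
      group
  have pg2 : ph sg * ph sg = 1 := by rw [← map_mul, sg_sq, map_one]
  have sp24 : sig * ph sg * sig * ph sg * sig * ph sg = 1 := by
    rw [braid_24, show ph sg * sig * ph sg * ph sg * sig * ph sg =
      ph sg * sig * (ph sg * ph sg) * sig * ph sg by group, pg2, mul_one,
      show ph sg * sig * sig * ph sg = ph sg * (sig * sig) * ph sg by group, sig_sq, mul_one, pg2]
  set H := u * p * (u * p) * (u * p) with hH
  have move : ∀ {v}, Commute v pa → Commute v pb → Commute H (l v) := by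
    intro v va vb
    obtain ⟨a1, b1, e1, g1⟩ := hrho va vb
    obtain ⟨a2, b2, e2, g2⟩ := hrho a1 b1
    obtain ⟨-, -, e3, g3⟩ := hrho a2 b2
    have hid : rho (rho (rho v)) = v := by
      refine inp.inj ?_
      have hi : (ph sg)⁻¹ = ph sg := inv_eq_of_mul_eq_one_left pg2
      calc ph (rho (rho (rho v)))
          = sig * ph sg * sig * ph sg * sig * ph sg * ph v *
              (ph sg * sig * ph sg * sig * ph sg * sig) := by rw [g3, g2, g1]; group
        _ = ph v * (sig * ph sg * sig * ph sg * sig * ph sg)⁻¹ := by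
            rw [sp24, one_mul]
            congr 1
            rw [← sp24]
            simp only [mul_inv_rev, hi, sig_inv, mul_assoc]
        _ = ph v := by rw [sp24, inv_one, mul_one]
    refine mul_inv_eq_iff_eq_mul.1 ?_
    conv_rhs => rw [← hid, e3, e2, e1]
    rw [hH]; group
  have hta : Commute H t := lta ▸ move (Commute.refl pa) hab.2.2
  have hte : Commute H e := ltb ▸ move hab.2.2.symm (Commute.refl pb)
  obtain ⟨w, wa, hw⟩ := lsurj H (F.cent H hta hte)
  have pull : ∀ {x}, Commute H (l x) → Commute w x := fun {x} q => linj (by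
    rw [map_mul, map_mul, hw]; exact q.eq)
  have wb : Commute w pb := pull (ltb.symm ▸ hte)
  obtain ⟨-, -, ew, -⟩ := hrho wa wb
  have wfix : rho w = w := linj (by rw [ew, hw, hH]; group)
  have ρa : rho pa = pa * pb := by show ν (sg * pa * sg) = _; rw [sg_a, νb]
  have ρb : rho pb = pa := by show ν (sg * pb * sg) = _; rw [sg_b, νa]
  have hH1 : H = 1 := by
    rcases hM23.kernel_pair pa_mem hab (mem_nbSub_pa.2 wa) wb (fun v hv =>
        pull (move hv.1.2.2.symm hv.2.2.2.symm)) with r | r | r | r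
    · rw [← hw, r, map_one]
    · rw [r, ρa] at wfix; exact absurd (mul_eq_left.1 wfix) (hM23.core.ne_one _ pb_mem)
    · rw [r, ρb] at wfix; exact absurd wfix pa_ne_pb
    · rw [r] at wfix
      have e1 : rho (pa * pb) = pb := by
        show ν (sg * (pa * pb) * sg) = _
        rw [sg_conj_mul, sg_a, sg_b, νmul hab.2.2.symm (Commute.refl pa), νb, νa, mul_assoc,
          hab.2.2.symm.eq, ← mul_assoc, tt23.sq pa pa_mem, one_mul]
      rw [e1] at wfix
      exact absurd (mul_eq_right.1 wfix.symm) (hM23.core.ne_one _ pa_mem)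
  have uu : u * u = 1 := by
    rcases usq with r | r
    · exact r
    exfalso
    set q := l pp with hq
    have qq2 : q * q = 1 := by rw [hq, ← map_mul, pp_sq, map_one]
    have hpq : p * q * p = q * p * q := by
      simp only [hp, hq, ← map_mul]; rw [braid_sp]
    have uq : Commute u q := by
      refine mul_inv_eq_iff_eq_mul.1 ?_
      rw [hu' pp pp_a]
      congr 1
      refine inp.inj ?_
      rw [(hν pp pp_a).2, sig_pp.eq, mul_assoc, sig_sq, mul_one]
    have uinv : u⁻¹ * u⁻¹ = t := by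
      rw [← mul_inv_rev, r, inv_eq_of_mul_eq_one_left F.tt]
    have e1 : u * p * q * u * (q * p * u⁻¹) = p * t := by
      calc u * p * q * u * (q * p * u⁻¹) = u * p * (q * u) * q * p * u⁻¹ := by group
        _ = u * p * (u * q) * q * p * u⁻¹ := by rw [uq.eq]
        _ = u * p * u * (q * q) * p * u⁻¹ := by group
        _ = H * (p⁻¹ * u⁻¹) * u⁻¹ := by rw [qq2, mul_one, hH]; group
        _ = p * (u⁻¹ * u⁻¹) := by
            rw [hH1, one_mul, inv_eq_of_mul_eq_one_left pp2]; group
        _ = p * t := by rw [uinv]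
    have e2 : u * p * q * p * (q * p * u⁻¹) = q := by
      calc u * p * q * p * (q * p * u⁻¹) = u * (p * q * p) * q * p * u⁻¹ := by group
        _ = u * q * p * (q * q) * p * u⁻¹ := by rw [hpq]; group
        _ = u * q * (p * p) * u⁻¹ := by rw [qq2, mul_one]; group
        _ = q := by rw [pp2, mul_one, uq.eq, mul_inv_cancel_right]
    have hinv : q * p * u⁻¹ = (u * p * q)⁻¹ := by
      rw [mul_inv_rev, mul_inv_rev, inv_eq_of_mul_eq_one_left qq2, inv_eq_of_mul_eq_one_left pp2]
      group
    have e3 : p * t * q * (p * t * q) * (p * t * q) = 1 := by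
      rw [hinv] at e1 e2
      calc p * t * q * (p * t * q) * (p * t * q)
          = u * p * q * H * (u * p * q)⁻¹ := by
            conv_lhs => rw [← e1]; arg 2; arg 2; rw [← e2]
            rw [hH]
            conv_lhs => arg 1; arg 1; arg 2; rw [← e2]
            conv_lhs => arg 1; arg 2; arg 2; rw [← e2]
            group
        _ = 1 := by rw [hH1, mul_one, mul_inv_cancel]
    have e4 : sg * pa * pp * (sg * pa * pp) * (sg * pa * pp) = 1 := linj (by
      simp only [map_mul, map_one, lta, ← hp, ← hq]; exact e3)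
    have hM : sg * pa = pb * sg := by
      rw [← sg_a, mul_assoc (sg * pa) sg sg, sg_sq, mul_one]
    have hrot : ∀ v, sg * pp * v * (sg * pp)⁻¹ = rot v := fun v => by
      rw [mul_inv_rev, sg_inv, inv_eq_of_mul_eq_one_left pp_sq, rot]; group
    have e5 : pb * pc * pa = 1 := by
      calc pb * pc * pa = pb * rot pb * rot (rot pb) * (sg * pp * sg * pp * sg * pp) := by
            rw [sp_cube, mul_one, rot_b, rot_c]
        _ = pb * sg * pp * (pb * sg * pp) * (pb * sg * pp) := by
            rw [← hrot, ← hrot]; group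
        _ = 1 := by rw [← hM, e4]
    refine hM23.ind [pb, pc, pa] ?_ (by simp) (by simp) ?_ ?_ (by simpa [mul_assoc] using e5)
    · simp [pa_ne_pb.symm, hcab.2.2.1.symm, hcab.1.2.1]
    · simp [pa_mem, pb_mem, pc_mem]
    · simp only [List.mem_cons, List.not_mem_nil, or_false]
      rintro a (rfl | rfl | rfl) b (rfl | rfl | rfl)
      exacts [Commute.refl _, hcab.2.2.2, hab.2.2.symm, hcab.2.2.2.symm, Commute.refl _,
        hcab.1.2.2.symm, hab.2.2, hcab.1.2.2, Commute.refl _]
  have ui : u⁻¹ = u := inv_eq_of_mul_eq_one_left uu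
  refine ⟨u, uu, hut, unK, fun x x' hx q => ?_, ?_⟩
  · rw [show x' = ν x from inp.inj (q.trans (hν x hx).2.symm), ← hu' x hx, ui]
  · have e6 : u * p * u * (p * u * p) = 1 := by rw [← hH1, hH]; group
    rw [eq_inv_of_mul_eq_one_left e6, mul_inv_rev, mul_inv_rev, ui, inv_eq_of_mul_eq_one_left pp2]
    group

end Cfsg.Agent.H41.Fi24Rec
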