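import Cfsg.Agent.H41.Fi24Rec.Edge
import Cfsg.Agent.H41.Fi24Rec.Cover

/-!
The presented Fi23 maps into the group, the centraliser of the first letter going onto the perfect part
of the centraliser of the involution.
-/

set_option autoImplicit false
set_option maxRecDepth 8000

namespace Cfsg.Agent.H41.Fi24Rec

open Cfsg.Agent.H93 Cfsg.Agent.H93.Exist
open Cfsg.Agent.H61.Glue (TI lvl23)

attribute [local instance] finG23

universe u

/-- conjugation by the two exchanges -/
def rot (v : G23) : G23 := sg * (pp * v * pp) * sg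

theorem pp_conj_mul (x y : G23) : pp * (x * y) * pp = pp * x * pp * (pp * y * pp) := by
  calc pp * (x * y) * pp = pp * x * (pp * pp) * y * pp := by rw [pp_sq]; group
    _ = _ := by group

theorem rot_mul (x y : G23) : rot (x * y) = rot x * rot y := by
  rw [rot, pp_conj_mul, sg_conj_mul]; rfl

theorem rot_a : rot pa = pb := by rw [rot, pp_a.eq, mul_assoc pa pp pp, pp_sq, mul_one, sg_a]

theorem rot_b : rot pb = pc := by rw [rot, pp_b, sg_c.eq, mul_assoc, sg_sq, mul_one]

theorem rot_c : rot pc = pa := by rw [rot, pp_c, sg_b]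

theorem sp_cube : sg * pp * sg * pp * sg * pp = 1 := by
  rw [braid_sp, show pp * sg * pp * pp * sg * pp = pp * sg * (pp * pp) * sg * pp by group, pp_sq,
    mul_one, show pp * sg * sg * pp = pp * (sg * sg) * pp by group, sg_sq, mul_one, pp_sq]

theorem rot_cube (v : G23) : rot (rot (rot v)) = v := by
  have hp : (pp : G23)⁻¹ = pp := inv_eq_of_mul_eq_one_left pp_sq
  have e : pp * sg * pp * sg * pp * sg = 1 := by
    have := congrArg (fun x => x⁻¹) sp_cube
    simpa [mul_inv_rev, sg_inv, hp, mul_assoc] using this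
  calc rot (rot (rot v)) = sg * pp * sg * pp * sg * pp * v * (pp * sg * pp * sg * pp * sg) := by
        simp only [rot]; group
    _ = v := by rw [sp_cube, e, one_mul, mul_one]

theorem rot_triple {v : G23} (ha : Commute v pa) (hb : Commute v pb) (hc : Commute v pc) :
    Commute (rot v) pa ∧ Commute (rot v) pb ∧ Commute (rot v) pc := by
  have key : ∀ {x}, Commute v x → Commute (rot v) (rot x) := fun {x} q => by
    show rot v * rot x = rot x * rot v
    rw [← rot_mul, ← rot_mul, q.eq]
  exact ⟨rot_c ▸ key hc, rot_a ▸ key ha, rot_b ▸ key hb⟩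

namespace Theta

variable {G : Type u} [Group G] {t e : G} {K : Subgroup G} {θ : G23 → G} (h : Theta t e K θ)
  {s : G} (hs : Edge t e θ s)

include h hs

theorem rot_img {v : G23} (ha : Commute v pa) (hc : Commute v pc) :
    θ (rot v) = s * θ pp * θ v * (θ pp * s) := by
  have h1 : Commute (pp * v * pp) pa := (pp_a.mul_left ha).mul_left pp_a
  have h2 : Commute (pp * v * pp) pb := by
    show pp * v * pp * pb = pb * (pp * v * pp)
    conv_lhs => rw [← pp_c, ← pp_conj_mul, hc.eq]
    conv_rhs => rw [← pp_c, ← pp_conj_mul]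
  rw [rot, hs.compat _ h1 h2, h.mul (pp_a.mul_left ha) pp_a, h.mul pp_a ha]
  group

set_option maxHeartbeats 800000 in
/-- the exchanges braid -/
theorem sbraid [Finite G] (F : Facts t e K) : s * θ pp * s = θ pp * s * θ pp := by
  classical
  set p := θ pp with hp
  set q := θ kp with hq
  have hba : Commute pb pa := hab.2.2.symm
  have hca : Commute pc pa := hcab.1.2.2.symm
  have hcb : Commute pc pb := hcab.2.2.2.symm
  have hga : Commute pg pa := hgab.1.2.2.symm
  have hgb : Commute pg pb := hgab.2.2.2.symm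
  have hgc : Commute pg pc := hcg.2.2.symm
  have pp2 : p * p = 1 := by rw [hp, ← h.mul pp_a pp_a, pp_sq, h.one]
  have qq2 : q * q = 1 := by rw [hq, ← h.mul kp_a kp_a, kp_sq, h.one]
  set H := s * p * (s * p) * (s * p) with hH
  have hHinv : H⁻¹ = p * s * (p * s) * (p * s) := by
    simp only [hH, mul_inv_rev, inv_eq_of_mul_eq_one_left hs.ss, inv_eq_of_mul_eq_one_left pp2,
      mul_assoc]
  have move : ∀ {v}, Commute v pa → Commute v pb → Commute v pc → Commute H (θ v) := by
    intro v va vb vc
    obtain ⟨a1, b1, c1⟩ := rot_triple va vb vc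
    obtain ⟨a2, b2, c2⟩ := rot_triple a1 b1 c1
    refine mul_inv_eq_iff_eq_mul.1 ?_
    conv_rhs => rw [← rot_cube v, h.rot_img hs a2 c2, h.rot_img hs a1 c1, h.rot_img hs va vc]
    rw [hHinv, hH, ← hp]
    group
  obtain ⟨w, wa, wb, hw⟩ := h.cen_te F (h.ta ▸ move (Commute.refl pa) hab.2.2 hca.symm)
    (h.tb ▸ move hba (Commute.refl pb) hcb.symm)
  have wc : Commute w pc := (h.comm wa hca).1 (hw.symm ▸ move hca hcb (Commute.refl pc))
  set C := nb D23 pa ∩ nb D23 pb with hC
  have hTI : TI (fun v => w * v * w⁻¹) C C := by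
    refine ⟨((Set.toFinite C).injOn_iff_bijOn_of_mapsTo fun v hv => conj_mem_C wa wb hv).1
      fun x _ y _ q => mul_left_cancel (mul_right_cancel q), fun x _ y _ => ?_⟩
    show w * (x * y * x) * w⁻¹ = w * x * w⁻¹ * (w * y * w⁻¹) * (w * x * w⁻¹)
    group
  have cmul : ∀ {x y : G23}, x * y * x⁻¹ = y → Commute x y := fun q => mul_inv_eq_iff_eq_mul.1 q
  have h8 : (w = 1 ∨ w = pa ∨ w = pb ∨ w = pa * pb) ∨
      (pc * w = 1 ∨ pc * w = pa ∨ pc * w = pb ∨ pc * w = pa * pb) := by
    rcases (lvl23 hG23 hM23).k2 pa pa_mem pb hab pc hcab (fun v => w * v * w⁻¹) hTI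
      (mul_inv_eq_iff_eq_mul.2 wc.eq) (fun v hv => mul_inv_eq_iff_eq_mul.2 (Commute.eq
        ((h.comm wa (comm_of_mem hv.2).1).1 (hw.symm ▸
          move (comm_of_mem hv.2).1 (comm_of_mem hv.2).2 hv.1.2.2.symm)))) with r | r
    · exact Or.inl (hM23.kernel_pair pa_mem hab (mem_nbSub_pa.2 wa) wb fun v hv => cmul (r v hv))
    · refine Or.inr (hM23.kernel_pair pa_mem hab (mem_nbSub_pa.2 (hca.mul_left wa))
        (hcb.mul_left wb) fun v hv => cmul ?_)
      have e1 : w * v * w⁻¹ = pc * v * pc := r v hv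
      calc pc * w * v * (pc * w)⁻¹ = pc * (w * v * w⁻¹) * pc⁻¹ := by group
        _ = pc * (pc * v * pc) * pc := by rw [e1, tt23.inv_eq pc_mem]
        _ = pc * pc * v * (pc * pc) := by group
        _ = v := by rw [tt23.sq pc pc_mem, one_mul, mul_one]
  have wfix : rot w = w := by
    obtain ⟨a1, -, -⟩ := rot_triple wa wb wc
    refine h.inj a1 wa ?_
    rw [h.rot_img hs wa wc, hw, ← hp]
    calc s * p * H * (p * s) = H * (s * (p * p) * s) := by rw [hH]; group
      _ = H := by rw [pp2, mul_one, hs.ss, mul_one]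
  have hac : pa ≠ pc := fun q => hcab.1.2.1 q.symm
  have hbc : pb ≠ pc := fun q => hcab.2.2.1 q.symm
  have hfin : w = 1 ∨ w = pc * (pa * pb) := by
    have cancel : ∀ {x : G23}, pc * w = x → w = pc * x := fun {x} r => by
      rw [← r, ← mul_assoc, tt23.sq pc pc_mem, one_mul]
    rcases h8 with (r | r | r | r) | (r | r | r | r)
    · exact Or.inl r
    · exact absurd (rot_a ▸ r ▸ wfix : pb = pa) pa_ne_pb.symm
    · exact absurd (rot_b ▸ r ▸ wfix : pc = pb) hbc.symm
    · exfalso
      rw [r, rot_mul, rot_a, rot_b, hab.2.2.eq] at wfix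
      exact hac (mul_left_cancel wfix).symm
    · exfalso
      rw [cancel r, mul_one, rot_c] at wfix
      exact hac wfix
    · exfalso
      rw [cancel r, rot_mul, rot_c, rot_a, ← hca.symm.eq] at wfix
      exact hbc (mul_left_cancel wfix)
    · exfalso
      rw [cancel r, rot_mul, rot_c, rot_b, hcb.eq] at wfix
      exact pa_ne_pb (mul_right_cancel wfix)
    · exact Or.inr (cancel r)
  have hH1 : H = 1 := by
    rcases hfin with r | r
    · rw [← hw, r, h.one]
    exfalso
    set X := pc * (pa * pb) with hX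
    have hXa : Commute X pa := hca.mul_left ((Commute.refl pa).mul_left hba)
    have hXc : Commute X pc := (Commute.refl pc).mul_left (hca.symm.mul_left hcb.symm)
    have hsq : s * q = q * s := by
      have := hs.compat kp kp_a kp_b
      rw [sg_kp.eq, mul_assoc, sg_sq, mul_one] at this
      calc s * q = s * (s * θ kp * s) := by rw [← this, hq]
        _ = (s * s) * q * s := by rw [hq]; group
        _ = q * s := by rw [hs.ss, one_mul]
    have hpq : p * q * p = q * p * q := by
      rw [hp, hq, ← h.mul pp_a kp_a, ← h.mul (pp_a.mul_left kp_a) pp_a, braid_pk,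
        h.mul (kp_a.mul_left pp_a) kp_a, h.mul kp_a pp_a]
    have cH : H * s * p = s * p * H := by rw [hH]; group
    have hsp : s * p * s * p * s = H * p := by
      calc s * p * s * p * s = s * p * s * p * s * (p * p) := by rw [pp2, mul_one]
        _ = H * p := by rw [hH]; group
    have u2 : s * p * q * p * (q * p * s) = q := by
      calc s * p * q * p * (q * p * s) = s * (p * q * p) * (q * p * s) := by group
        _ = s * (q * p * q) * (q * p * s) := by rw [hpq]
        _ = s * q * p * (q * q) * p * s := by group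
        _ = s * q * (p * p) * s := by rw [qq2, mul_one]; group
        _ = q * (s * s) := by rw [pp2, mul_one, hsq, mul_assoc]
        _ = q := by rw [hs.ss, mul_one]
    have u1 : s * p * q * s * (q * p * s) = H * p := by
      calc s * p * q * s * (q * p * s) = s * p * (q * s * q) * p * s := by group
        _ = s * p * (s * (q * q)) * p * s := by rw [← hsq, mul_assoc s q q]
        _ = _ := by rw [qq2, mul_one, hsp]
    have hu : s * p * q * (q * p * s) = 1 := by
      calc s * p * q * (q * p * s) = s * (p * (q * q) * p) * s := by group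
        _ = 1 := by rw [qq2, mul_one, pp2, mul_one, hs.ss]
    have hconj : ∀ x y, s * p * q * (x * y) * (q * p * s) =
        s * p * q * x * (q * p * s) * (s * p * q * y * (q * p * s)) := fun x y => by
      have hu' : q * p * s * (s * p * q) = 1 := by
        rw [← inv_eq_of_mul_eq_one_right hu, inv_mul_cancel]
      calc s * p * q * (x * y) * (q * p * s)
          = s * p * q * x * (q * p * s * (s * p * q)) * y * (q * p * s) := by
            rw [hu', mul_one]; group
        _ = _ := by group
    have e1 : s * p * q * H * (q * p * s) = H * p * q * (H * p * q) * (H * p * q) := by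
      have hx : s * p * q * (s * p) * (q * p * s) = H * p * q := by rw [hconj, u1, u2]
      rw [hH, hconj, hconj, hx]
    -- the left side
    have hXga : Commute (kp * X * kp) pa := (kp_a.mul_left hXa).mul_left kp_a
    have hY : pp * (kp * X * kp) * pp = pg * (pa * pc) := by
      rw [hX, show kp * (pc * (pa * pb)) * kp = (kp * pc * kp) * (pa * pb) by
        have ck : Commute kp (pa * pb) := kp_a.mul_right kp_b
        calc kp * (pc * (pa * pb)) * kp = kp * pc * ((pa * pb) * kp) := by group
          _ = kp * pc * (kp * (pa * pb)) := by rw [ck.eq]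
          _ = _ := by group, kp_c, pp_conj_mul, pp_conj_mul, pp_b, pp_a.eq, mul_assoc pa pp pp,
        pp_sq, mul_one, pp_g.eq, mul_assoc pg pp pp, pp_sq, mul_one]
    have hl : s * p * q * H * (q * p * s) = θ (pb * (pc * pg)) := by
      have hYa : Commute (pg * (pa * pc)) pa := hga.mul_left ((Commute.refl pa).mul_left hca)
      have hYb : Commute (pg * (pa * pc)) pb := hgb.mul_left (hab.2.2.mul_left hcb)
      have hYs : sg * (pg * (pa * pc)) * sg = pb * (pc * pg) := by
        rw [sg_conj_mul, sg_conj_mul, sg_a, sg_c.eq, mul_assoc pc sg sg, sg_sq, mul_one, sg_g.eq,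
          mul_assoc pg sg sg, sg_sq, mul_one, ← mul_assoc, hgb.eq, mul_assoc, hgc.eq]
      rw [← hYs, hs.compat _ hYa hYb, ← hY, h.mul (pp_a.mul_left hXga) pp_a, h.mul pp_a hXga,
        h.mul (kp_a.mul_left hXa) kp_a, h.mul kp_a hXa, ← hw, r, hp, hq]
      group
    -- the right side
    have hr : H * p * q * (H * p * q) * (H * p * q) = θ pa := by
      have hxa : Commute (X * (pp * kp)) pa := hXa.mul_left (pp_a.mul_left kp_a)
      have eX : H * p * q = θ (X * (pp * kp)) := by
        rw [h.mul hXa (pp_a.mul_left kp_a), h.mul pp_a kp_a, ← hw, r, hp, hq, mul_assoc]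
      rw [eX, ← h.mul hxa hxa, ← h.mul (hxa.mul_left hxa) hxa]
      congr 1
      -- the cube in the presented group
      set M := pp * kp with hM
      have hki : (kp : G23)⁻¹ = kp := inv_eq_of_mul_eq_one_left kp_sq
      have hpi : (pp : G23)⁻¹ = pp := inv_eq_of_mul_eq_one_left pp_sq
      have cc : ∀ {x y : G23} (k : G23), k * (x * y) * k⁻¹ = k * x * k⁻¹ * (k * y * k⁻¹) :=
        fun {x y} k => by group
      have Ma : M * pa * M⁻¹ = pa := mul_inv_eq_iff_eq_mul.2 (pp_a.mul_left kp_a).eq
      have Mc : M * pc * M⁻¹ = pg := by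
        calc M * pc * M⁻¹ = pp * (kp * pc * kp) * pp := by
              rw [hM, mul_inv_rev, hki, hpi]; group
          _ = pg := by rw [kp_c, pp_g.eq, mul_assoc, pp_sq, mul_one]
      have Mb : M * pb * M⁻¹ = pc := by
        calc M * pb * M⁻¹ = pp * (kp * pb * kp) * pp := by
              rw [hM, mul_inv_rev, hki, hpi]; group
          _ = pc := by rw [kp_b.eq, mul_assoc pb kp kp, kp_sq, mul_one, pp_b]
      have Mg : M * pg * M⁻¹ = pb := by
        calc M * pg * M⁻¹ = pp * (kp * pg * kp) * pp := by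
              rw [hM, mul_inv_rev, hki, hpi]; group
          _ = pb := by rw [kp_g, pp_c]
      have M3 : M * M * M = 1 := by
        calc M * M * M = (pp * kp * pp) * (kp * pp * kp) := by rw [hM]; group
          _ = (kp * pp * kp) * (kp * pp * kp) := by rw [braid_pk]
          _ = kp * pp * (kp * kp) * pp * kp := by group
          _ = 1 := by rw [kp_sq, mul_one, mul_assoc kp pp pp, pp_sq, mul_one, kp_sq]
      have X1 : M * X * M⁻¹ = pg * (pa * pc) := by rw [hX, cc, cc, Mc, Ma, Mb]
      have X2 : M * (pg * (pa * pc)) * M⁻¹ = pb * (pa * pg) := by rw [cc, cc, Mg, Ma, Mc]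
      have aa := tt23.sq pa pa_mem
      calc X * M * (X * M) * (X * M)
          = X * (M * X * M⁻¹) * (M * (M * X * M⁻¹) * M⁻¹) * (M * M * M) := by group
        _ = pc * (pa * pb) * (pg * (pa * pc)) * (pb * (pa * pg)) := by
            rw [X1, X2, M3, mul_one, hX]
        _ = (pc * pa) * (pb * pg) * (pa * pc) * (pb * pa) * pg := by group
        _ = pa := by
            have c1 : Commute pa (pb * pg) := hba.symm.mul_right hga.symm
            have c2 : Commute pa (pc * pb) := hca.symm.mul_right hba.symm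
            calc (pc * pa) * (pb * pg) * (pa * pc) * (pb * pa) * pg
                = pc * (pa * (pb * pg)) * pa * (pc * pb * pa) * pg := by group
              _ = pc * ((pb * pg) * pa) * pa * (pa * (pc * pb)) * pg := by rw [c1.eq, ← c2.eq]
              _ = pc * (pb * pg) * (pa * pa) * pa * (pc * pb) * pg := by group
              _ = pc * (pb * pg) * ((pa * (pc * pb)) * pg) := by rw [aa, mul_one]; group
              _ = pc * (pb * pg) * ((pc * pb) * pg * pa) := by
                  rw [mul_assoc pa (pc * pb) pg, (c2.mul_right hga.symm).eq]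
              _ = pc * (pb * pg * pc) * pb * pg * pa := by group
              _ = pc * (pc * (pb * pg)) * pb * pg * pa := by
                  rw [(hcb.mul_right hgc.symm).eq]
              _ = (pc * pc) * (pb * (pg * pb)) * pg * pa := by group
              _ = pa := by
                  rw [tt23.sq pc pc_mem, hgb.eq, ← mul_assoc pb pb pg, tt23.sq pb pb_mem, one_mul,
                    one_mul, tt23.sq pg pg_mem, one_mul]
    have heq : pb * (pc * pg) = pa := h.inj (hba.mul_left (hca.mul_left hga)) (Commute.refl pa)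
      (by rw [← hl, e1, hr])
    refine hM23.ind [pa, pb, pc, pg] ?_ (by simp) (by simp) ?_ ?_ ?_
    · simp [pa_ne_pb, hac, hbc, hgab.1.2.1.symm, hgab.2.2.1.symm, hcg.2.1.symm]
    · simp [pa_mem, pb_mem, pc_mem, pg_mem]
    · simp only [List.mem_cons, List.not_mem_nil, or_false]
      rintro x (rfl | rfl | rfl | rfl) y (rfl | rfl | rfl | rfl)
      exacts [Commute.refl _, hba.symm, hca.symm, hga.symm, hba, Commute.refl _, hcb.symm, hgb.symm,
        hca, hcb, Commute.refl _, hgc.symm, hga, hgb, hgc, Commute.refl _]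
    · simp only [List.prod_cons, List.prod_nil, mul_one]
      rw [heq, tt23.sq pa pa_mem]
  have e : s * p * s * (p * s * p) = 1 := by rw [← hH1, hH]; group
  rw [eq_inv_of_mul_eq_one_left e, mul_inv_rev, mul_inv_rev, inv_eq_of_mul_eq_one_left hs.ss,
    inv_eq_of_mul_eq_one_left pp2]
  group

end Theta

variable {G : Type u} [Group G] [Finite G] {t e : G} {K : Subgroup G}

/-- the base member -/
def va : Mem (Cfsg.Agent.H25.Fi23.zEl : G23) := ⟨pa, pa_mem⟩
/-- the second member -/
def vb : Mem (Cfsg.Agent.H25.Fi23.zEl : G23) := ⟨pb, pb_mem⟩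
/-- the third member -/
def vc : Mem (Cfsg.Agent.H25.Fi23.zEl : G23) := ⟨pc, pc_mem⟩

/-- the map of the presented Fi23 -/
theorem exists_level23 (F : Facts t e K) : ∃ f : G23 →* G, Function.Injective f ∧ f pa = t ∧
    f pb = e ∧ (∀ x, Commute x pa → f x ∈ K) ∧ ∀ k ∈ K, ∃ x, Commute x pa ∧ f x = k := by
  classical
  obtain ⟨θ, h⟩ := exists_theta F
  obtain ⟨s, hs⟩ := h.exists_edge F
  let θ' : ↥(MulAction.stabilizer G23 va) →* G := MonoidHom.mk' (fun x => θ x) fun x y =>
    h.mul ((smul_eq_iff _ _).1 x.2) ((smul_eq_iff _ _).1 y.2)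
  let π' : ↥(MulAction.stabilizer G23 va) := ⟨pp, (smul_eq_iff _ _).2 pp_a⟩
  have fixb : ∀ {x : G23}, x • vb = vb → Commute x pb := fun q => (smul_eq_iff _ _).1 q
  have hA : Amalg madj va vb vc θ' sg s π' :=
    { inv := fun g u w => madj_inv g u w
      symm := madj_symm
      irr := madj_irr
      ab := ⟨hab.2.1, hab.2.2⟩
      σa := smul_eq_of (show sg * pa * sg⁻¹ = pb by rw [sg_inv, sg_a])
      σσ := sg_sq
      ss := hs.ss
      compat := fun x hx y hy => by
        show θ y = s * θ x * s
        rw [hy]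
        exact hs.compat _ ((smul_eq_iff _ _).1 x.2) (fixb hx)
      trans_nb := fun v hv => by
        obtain ⟨k, hk, ek⟩ := hG23.conj_nb pa_mem (⟨v.2, hv.1, hv.2⟩ : v.1 ∈ nb D23 pa) hab
        exact ⟨⟨k, (smul_eq_iff _ _).2 hk⟩, smul_eq_of ek⟩
      trans_tri := fun v hv hv' => by
        obtain ⟨k, ka, kb, ek⟩ := trans2 hcab
          (⟨⟨v.2, hv.1, hv.2⟩, v.2, hv'.1, hv'.2⟩ : v.1 ∈ nb D23 pa ∩ nb D23 pb)
        exact ⟨⟨k, (smul_eq_iff _ _).2 ka⟩, (smul_eq_iff _ _).2 kb, smul_eq_of ek⟩
      σc := (smul_eq_iff _ _).2 sg_c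
      πb := smul_eq_of (show pp * pb * pp⁻¹ = pc by
        rw [inv_eq_of_mul_eq_one_left pp_sq, pp_b])
      braid := braid_sp
      sbraid := h.sbraid hs F }
  have farc : ∀ {z}, IsFar madj va z → ¬ Commute pa z.1 := fun {z} hz q =>
    hz.2 ⟨fun r => hz.1 (Subtype.ext r), q⟩
  have comn : ∀ {z y}, y.1 ∈ common D23 pa z.1 ↔ Comn madj va z y := fun {z y} =>
    ⟨fun q => ⟨⟨q.1.2.1, q.1.2.2⟩, ⟨fun r => q.2.2.1 r.symm, q.2.2.2.symm⟩⟩,
      fun q => ⟨⟨y.2, q.1.1, q.1.2⟩, y.2, q.2.1.symm, q.2.2.symm⟩⟩
  have L := lvl23 hG23 hM23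
  obtain ⟨f, hf, -⟩ := hA.exists_hom (fun z hz => by
      obtain ⟨y, hy⟩ := hG23.far pa pa_mem z.1 z.2 (farc hz)
      exact ⟨⟨y, hy.1.1⟩, comn.1 hy⟩) (fun z w hz hw hzw => by
      rcases L.meets pa pa_mem z.1 z.2 (farc hz) w.1 ⟨w.2, hzw.1, hzw.2⟩ with q | ⟨y, hy, hyw⟩
      · exact absurd q.1.2.2 (farc hw)
      · exact ⟨⟨y, hy.1.1⟩, comn.1 hy, hyw.2.1, hyw.2.2⟩) (hA.hk_of_linked fun z y y' hz hy hy' => by
      have hl := hG23.link pa pa_mem z.1 z.2 (farc hz) _ (comn.2 hy) _ (comn.2 hy')
      have key : ∀ q, Relation.ReflTransGen (fun p q => q ∈ common D23 pa z.1 ∧ Commute p q) y.1 q →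
          ∀ hq : q ∈ common D23 pa z.1, Reach madj va z y ⟨q, hq.1.1⟩ := by
        intro q hr
        induction hr with
        | refl => intro _; exact Relation.ReflTransGen.refl
        | @tail m q hr' hmq ih =>
          intro hq
          have hm : m ∈ common D23 pa z.1 := by
            rcases Relation.ReflTransGen.cases_tail hr' with r | ⟨_, -, r, -⟩
            · exact r ▸ comn.2 hy
            · exact r
          by_cases r : q = m
          · subst r; exact ih hm
          · exact (ih hm).tail ⟨⟨r, hmq.2⟩, comn.1 hq⟩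
      exact key _ hl (comn.2 hy'))
  have fval : ∀ x, Commute x pa → f x = θ x := fun x hx => hf ⟨x, (smul_eq_iff _ _).2 hx⟩
  have hta : f pa = t := (fval pa (Commute.refl pa)).trans h.ta
  refine ⟨f, ?_, hta, (fval pb hab.2.2.symm).trans h.tb, fun x hx => fval x hx ▸ h.mem hx,
    fun k hk => ?_⟩
  · have hsimple : IsSimpleGroup G23 := Cfsg.Agent.H25.Fi23.isFi23.1
    rcases hsimple.eq_bot_or_eq_top_of_normal f.ker f.normal_ker with q | q
    · exact (MonoidHom.ker_eq_bot_iff f).1 q
    · exact absurd (hta.symm.trans (MonoidHom.mem_ker.1 (q ▸ Subgroup.mem_top pa))) F.t1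
  · obtain ⟨x, hx, e1⟩ := h.surj k hk
    exact ⟨x, hx, (fval x hx).trans e1⟩

end Cfsg.Agent.H41.Fi24Rec
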