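import Cfsg.Agent.H41.Fi24Rec.Edge24
import Cfsg.Agent.H41.Fi24Rec.Cover
import Cfsg.Agent.H33.Fi24Rec.Comps
import Cfsg.Agent.H25.Fi24.Simple

/-!
The commutator subgroup of the presented Fi24 maps injectively into the group, the image containing the
centraliser of the involution.
-/

set_option autoImplicit false
set_option maxRecDepth 8000

namespace Cfsg.Agent.H41.Fi24Rec

open Cfsg.Spor Cfsg.Agent.H93 Cfsg.Agent.H93.Exist

attribute [local instance] finG23 finX24

universe u

variable {G : Type u} [Group G]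

/-- an action on at most nine points of the presented Fi23 is trivial -/
theorem small_invariant (l : G23 →* G) {T : Set G} (hfin : T.Finite) (hn : T.ncard ≤ 9)
    (hinv : ∀ x, ∀ k ∈ T, l x * k * (l x)⁻¹ ∈ T) {k : G} (hk : k ∈ T) (x : G23) :
    Commute (l x) k := by
  classical
  haveI : Finite ↥T := hfin.to_subtype
  let P : G23 →* Equiv.Perm ↥T := MonoidHom.mk' (fun x =>
    { toFun := fun k => ⟨l x * k.1 * (l x)⁻¹, hinv x _ k.2⟩
      invFun := fun k => ⟨(l x)⁻¹ * k.1 * l x, by
        simpa using hinv x⁻¹ _ k.2⟩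
      left_inv := fun k => Subtype.ext
        (show (l x)⁻¹ * (l x * k.1 * (l x)⁻¹) * l x = k.1 by group)
      right_inv := fun k => Subtype.ext
        (show l x * ((l x)⁻¹ * k.1 * l x) * (l x)⁻¹ = k.1 by group) }) fun x y =>
    Equiv.ext fun k => Subtype.ext (by
      show l (x * y) * k.1 * (l (x * y))⁻¹ = l x * (l y * k.1 * (l y)⁻¹) * (l x)⁻¹
      rw [map_mul]; group)
  have hsimple : IsSimpleGroup G23 := Cfsg.Agent.H25.Fi23.isFi23.1
  rcases hsimple.eq_bot_or_eq_top_of_normal P.ker P.normal_ker with q | q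
  · exfalso
    have h1 := Subgroup.card_dvd_of_injective P ((MonoidHom.ker_eq_bot_iff P).1 q)
    rw [Nat.card_perm, Nat.card_coe_set_eq, card_G23] at h1
    have h2 : 23 ∣ Nat.factorial T.ncard := (show 23 ∣ 4089470473293004800 by norm_num).trans h1
    have := (Nat.Prime.dvd_factorial (by norm_num : Nat.Prime 23)).1 h2
    omega
  · have h1 : P x = 1 := MonoidHom.mem_ker.1 (q ▸ Subgroup.mem_top x)
    have h2 := congrArg Subtype.val (Equiv.ext_iff.1 h1 ⟨k, hk⟩)
    exact mul_inv_eq_iff_eq_mul.1 h2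

variable [Finite G] {t e : G} {K : Subgroup G}

/-- the first member of the class -/
noncomputable def wl : Mem L24 := ⟨L24, mem_conjugatesOf_self⟩
/-- the second member -/
noncomputable def wa : Mem L24 := ⟨gen24 .a, show gen24 Fi24.Gen.a ∈ E24 from phi_pa ▸ mem24 pa_mem⟩
/-- the third member -/
noncomputable def wc : Mem L24 := ⟨gen24 .c, show gen24 Fi24.Gen.c ∈ E24 from phi_pb ▸ mem24 pb_mem⟩

theorem smul_sub {g : ↥(commutator Fi24)} {y w : Mem L24} (h : (g : Fi24) * y.1 * (g : Fi24)⁻¹ = w.1) :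
    g • y = w := Subtype.ext h

theorem smul_sub_iff (g : ↥(commutator Fi24)) (y : Mem L24) :
    g • y = y ↔ Commute (g : Fi24) y.1 := smul_eq_iff (g : Fi24) y

set_option maxHeartbeats 1000000 in
/-- the map of the simple group -/
theorem exists_level24 (F : Facts t e K) : ∃ f : ↥(commutator Fi24) →* G, Function.Injective f ∧
    (∀ a1 : ↥(commutator Fi24), (a1 : Fi24) = gen24 .a * gen24 .l → f a1 = t) ∧
    Subgroup.centralizer ({t} : Set G) ≤ f.range := by
  classical
  obtain ⟨l, linj, lta, ltb, lmem, lsurj⟩ := exists_level23 F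
  obtain ⟨s, ss, hst, hsK, hcompat, hbraid⟩ := exists_edge24 F linj lta ltb lmem lsurj
  have hfix : ∀ y : ↥(MulAction.stabilizer ↥(commutator Fi24) wl),
      ∃ x, ((y : ↥(commutator Fi24)) : Fi24) = ph x := fun y =>
    stab24 y.1.2 ((smul_sub_iff y.1 wl).1 y.2)
  choose x0 hx0 using hfix
  let θ' : ↥(MulAction.stabilizer ↥(commutator Fi24) wl) →* G :=
    MonoidHom.mk' (fun y => l (x0 y)) fun y y' => by
      rw [← map_mul]
      congr 1
      refine inp.inj ?_
      rw [map_mul, ← hx0, ← hx0, ← hx0]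
      rfl
  let emb : G23 → ↥(MulAction.stabilizer ↥(commutator Fi24) wl) := fun x =>
    ⟨⟨ph x, phi_mem x⟩, (smul_sub_iff _ wl).2 (inp.comm x).symm⟩
  have hemb : ∀ x, θ' (emb x) = l x := fun x => by
    show l (x0 (emb x)) = l x
    rw [inp.inj (hx0 (emb x)).symm]
  let σ' : ↥(commutator Fi24) := ⟨sig, sig_mem⟩
  have hA : Amalg madj wl wa wc θ' σ' s (emb sg) :=
    { inv := fun g u w => madj_inv (g : Fi24) u w
      symm := madj_symm
      irr := madj_irr
      ab := by
        have := inp.member pa_mem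
        rw [phi_pa] at this
        exact ⟨this.2.1, this.2.2⟩
      σa := smul_sub (show sig * L24 * sig⁻¹ = gen24 .a by rw [sig_inv, sig_l])
      σσ := Subtype.ext sig_sq
      ss := ss
      compat := fun x hx y hy => by
        show l (x0 y) = s * l (x0 x) * s
        refine hcompat _ _ ?_ ?_
        · have h1 : Commute ((x : ↥(commutator Fi24)) : Fi24) (gen24 .a) :=
            (smul_sub_iff x.1 wa).1 hx
          rw [hx0 x, ← phi_pa] at h1
          have h2 : Commute (ph (x0 x)) (ph pa) := by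
            have := h1.mul_right (inp.comm (x0 x)).symm
            rwa [mul_assoc, L24_sq, mul_one] at this
          refine inp.inj.eq_iff.1 ?_
          rw [map_mul, map_mul]
          exact h2.eq
        · rw [← hx0, ← hx0, hy]
          rfl
      trans_nb := fun v hv => by
        obtain ⟨d, hd, ed⟩ := inp.of_nb (⟨v.2, hv.1, hv.2⟩ : v.1 ∈ nb E24 L24)
        obtain ⟨g, hg⟩ := isConj_iff.1 (hM23.core.cls pa pa_mem d hd)
        refine ⟨emb g, smul_sub ?_⟩
        show ph g * gen24 .a * (ph g)⁻¹ = v.1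
        rw [ed, ← hg, ← phi_pa, map_mul, map_mul, map_inv,
          show ph g * (ph pa * L24) * (ph g)⁻¹ = ph g * ph pa * (L24 * (ph g)⁻¹) by group,
          (inp.comm g).inv_right.eq]
        group
      trans_tri := fun v hv hv' => by
        obtain ⟨d, hd, ed⟩ := inp.of_nb (⟨v.2, hv.1, hv.2⟩ : v.1 ∈ nb E24 L24)
        have hne : d ≠ pa := fun q => hv'.1 (by show v.1 = gen24 .a; rw [ed, q, ← phi_pa])
        have hcd : Commute pa d := by
          refine inp.inj.eq_iff.1 ?_
          rw [map_mul, map_mul]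
          have h1 : Commute (ph pa * L24) (ph d * L24) := by rw [phi_pa, ← ed]; exact hv'.2
          have h2 : Commute (ph pa * L24 * L24) (ph d * L24 * L24) :=
            (h1.mul_right ((inp.comm pa).symm.mul_left (Commute.refl L24))).mul_left
              ((((inp.comm d).mul_right (Commute.refl L24))).mul_right (Commute.refl L24))
          rw [mul_assoc, L24_sq, mul_one, mul_assoc, L24_sq, mul_one] at h2
          exact h2.eq
        obtain ⟨k, hk, ek⟩ := hG23.conj_nb pa_mem (⟨hd, hne, hcd⟩ : d ∈ nb D23 pa) hab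
        refine ⟨emb k, (smul_sub_iff _ wa).2 ?_, smul_sub ?_⟩
        · show Commute (ph k) (gen24 .a)
          rw [← phi_pa]
          exact (hk.map ph).mul_right (inp.comm k).symm
        · show ph k * gen24 .c * (ph k)⁻¹ = v.1
          rw [ed, ← ek, ← phi_pb, map_mul, map_mul, map_inv,
            show ph k * (ph pb * L24) * (ph k)⁻¹ = ph k * ph pb * (L24 * (ph k)⁻¹) by group,
            (inp.comm k).inv_right.eq]
          group
      σc := (smul_sub_iff σ' wc).2 sig_c
      πb := smul_sub (show ph sg * gen24 .a * (ph sg)⁻¹ = gen24 .c by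
        rw [← map_inv, sg_inv, ← phi_pa, ← phi_pb, ← sg_a, map_mul, map_mul,
          show ph sg * (ph pa * L24) * ph sg = ph sg * ph pa * (L24 * ph sg) by group,
          (inp.comm sg).eq]
        group)
      braid := Subtype.ext braid_24
      sbraid := by rw [hemb]; exact hbraid }
  -- the graph
  have geo := geo_24
  have htype := type_24
  have hL : L24 ∈ E24 := L24_mem
  have farc : ∀ {z}, IsFar madj wl z → ¬ Commute L24 z.1 := fun {z} hz q =>
    hz.2 ⟨fun r => hz.1 (Subtype.ext r), q⟩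
  have comn : ∀ {z y : Mem L24}, y.1 ∈ common E24 L24 z.1 ↔ Comn madj wl z y := fun {z y} =>
    ⟨fun q => ⟨⟨q.1.2.1, q.1.2.2⟩, ⟨fun r => q.2.2.1 r.symm, q.2.2.2.symm⟩⟩,
      fun q => ⟨⟨y.2, q.1.1, q.1.2⟩, y.2, q.2.1.symm, q.2.2.symm⟩⟩
  have key : ∀ {z y : Mem L24} (_ : y.1 ∈ common E24 L24 z.1) (q : Fi24),
      H33.Fi24Rec.Reach E24 L24 z.1 y.1 q →
      ∀ hq : q ∈ common E24 L24 z.1, Reach madj wl z y ⟨q, hq.1.1⟩ := by
    intro z y hy q hr
    induction hr with
    | refl => intro _; exact Relation.ReflTransGen.refl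
    | @tail m q hr' hmq ih =>
      intro hq
      have hm : m ∈ common E24 L24 z.1 := H33.Fi24Rec.reach_mem hy hr'
      by_cases r : q = m
      · subst r; exact ih hm
      · exact (ih hm).tail ⟨⟨r, hmq.2⟩, comn.1 hq⟩
  obtain ⟨f, hf, hfs⟩ := hA.exists_hom (fun z hz => by
      obtain ⟨y, hy⟩ := geo.far L24 hL z.1 z.2 (farc hz)
      exact ⟨⟨y, hy.1.1⟩, comn.1 hy⟩) (fun z w hz hw hzw => by
      rcases geo.meets L24 hL z.1 z.2 (farc hz) w.1 ⟨w.2, hzw.1, hzw.2⟩ with q | ⟨y, hy, hyw⟩
      · exact absurd q.1.2.2 (farc hw)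
      · exact ⟨⟨y, hy.1.1⟩, comn.1 hy, hyw.2.1, hyw.2.2⟩)
    (hA.hk_of_classes (n := 3) (z0 := (⟨gen24 .k, inp.hk⟩ : Mem L24))
      ⟨fun q => inp.hlk (by rw [show gen24 Fi24.Gen.k = L24 from congrArg Subtype.val q]),
        fun q => inp.hlk q.2⟩
      (by
        obtain ⟨y, hy, hcov⟩ := H33.Fi24Rec.comps_le geo htype hL inp.hk inp.hlk
        refine ⟨fun i => ⟨y i, (hy i).1.1⟩, fun i => comn.1 (hy i), fun v hv => ?_⟩
        obtain ⟨i, hi⟩ := hcov v.1 (comn.2 hv)
        exact ⟨i, key (hy i) v.1 hi (comn.2 hv)⟩)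
      (fun z w hz hw hzw y hy => by
        obtain ⟨y', h1, h2, h3⟩ := H33.Fi24Rec.reach_meets geo hL z.2 (farc hz)
          (⟨w.2, hzw.1, hzw.2⟩ : w.1 ∈ nb E24 z.1) (farc hw) (comn.2 hy)
        exact ⟨⟨y', h2.1.1⟩, key (comn.2 hy) y' h1 h2, h3.2.1.symm, h3.2.2.symm⟩)
      (fun P step h0 z hz => by
        refine H33.Fi24Rec.far_connected geo hL (P := fun g => ∀ hg : g ∈ E24, P ⟨g, hg⟩) ?_
          inp.hk inp.hlk (fun _ => h0) z.1 z.2 (farc hz) z.2
        intro a b ha hna hb hnb hPa hb'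
        refine step ⟨a, ha⟩ ⟨b, hb'⟩ ⟨fun q => hna ?_, fun q => hna q.2⟩
          ⟨fun q => hnb ?_, fun q => hnb q.2⟩ ⟨hb.2.1, hb.2.2⟩ (hPa ha)
        · rw [show a = L24 from congrArg Subtype.val q]
        · rw [show b = L24 from congrArg Subtype.val q])
      (fun T hT hn hinv k hk y => small_invariant l hT hn
        (fun x k' hk' => by simpa [hemb] using hinv (emb x) k' hk') hk (x0 y))
      (fun k hk => by
        have hk' : ∀ x, Commute (l x) k := fun x => hemb x ▸ hk (emb x)
        rcases F.selfc k (fun m hm => by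
          obtain ⟨x, -, rfl⟩ := lsurj m hm
          exact (hk' x).symm) with q | q
        · exact q
        exfalso
        have hc : pa ∈ Subgroup.center G23 := Subgroup.mem_center_iff.2 fun g => linj (by
          rw [map_mul, map_mul, lta, ← q]; exact (hk' g).eq)
        rw [center23, Subgroup.mem_bot] at hc
        exact hM23.core.ne_one _ pa_mem hc))
  have fval : ∀ x, f ⟨ph x, phi_mem x⟩ = l x := fun x => (hf (emb x)).trans (hemb x)
  have ha1 : ∀ a1 : ↥(commutator Fi24), (a1 : Fi24) = gen24 .a * gen24 .l → f a1 = t := by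
    intro a1 e1
    rw [show a1 = ⟨ph pa, phi_mem pa⟩ from Subtype.ext (e1.trans (by
      show gen24 Fi24.Gen.a * L24 = ph pa
      rw [← phi_pa, mul_assoc, L24_sq, mul_one])), fval, lta]
  refine ⟨f, ?_, ha1, fun u hu => ?_⟩
  · have hsimple : IsSimpleGroup ↥(commutator Fi24) := Cfsg.Agent.H25.Fi24.isSimple
    rcases hsimple.eq_bot_or_eq_top_of_normal f.ker f.normal_ker with q | q
    · exact (MonoidHom.ker_eq_bot_iff f).1 q
    · refine absurd ?_ F.t1
      rw [← lta, ← fval, MonoidHom.mem_ker.1 (q ▸ Subgroup.mem_top _)]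
  · have hK : K ≤ f.range := fun k hk => by
      obtain ⟨x, -, rfl⟩ := lsurj k hk
      exact ⟨_, fval x⟩
    have hut : Commute u t := (Subgroup.mem_centralizer_singleton_iff.1 hu)
    by_cases h : u ∈ K
    · exact hK h
    · have := mul_mem (hK (F.two u s hut hst h hsK)) (⟨σ', hfs⟩ : s ∈ f.range)
      rwa [mul_assoc, ss, mul_one] at this

end Cfsg.Agent.H41.Fi24Rec
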