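import Cfsg.Agent.H18.LFiFi22.Top
import Cfsg.Agent.H49.USix.Inst.Build
import Cfsg.Agent.H33.AutLFi.Ext
import Cfsg.Agent.H47.TwoU62.Main
import Cfsg.Agent.H93.Exist.Fi22Point

/-!
Large Fischer type: what is used about a non-central involution `t` of the core, its partner `e` on the
line and the quasisimple part of the centraliser of `t`.
-/

set_option autoImplicit false
set_option maxRecDepth 4000

namespace Cfsg.Agent.H41.Fi24Rec

open Subgroup Cfsg.Agent.H41.SUSix Cfsg.Agent.H41.LFi Cfsg.Agent.H18.LFiFi22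
open Cfsg.Agent.H92.ExtraForm (zp)

universe u

/-- an involution, a commuting conjugate and the double cover of Fi22 in the centraliser -/
structure Facts {G : Type u} [Group G] (t e : G) (K : Subgroup G) : Prop where
  tt : t * t = 1
  ee : e * e = 1
  te : Commute t e
  t1 : t ≠ 1
  comm : ∀ k ∈ K, Commute k t
  tK : t ∈ K
  eK : e ∈ K
  conj_e : IsConj t e
  conj_te : IsConj t (t * e)
  two : ∀ u v, Commute u t → Commute v t → u ∉ K → v ∉ K → u * v ∈ K
  cent : ∀ u, Commute u t → Commute u e → u ∈ K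
  swap : ∃ g, g * t * g⁻¹ = e ∧ g * e * g⁻¹ = t
  third : ∃ k ∈ K, Commute e (k * e * k⁻¹) ∧ k * e * k⁻¹ ≠ e ∧ k * e * k⁻¹ ≠ t * e ∧
    IsConj t (e * (k * e * k⁻¹)) ∧ ¬ IsConj t (t * e * (k * e * k⁻¹))
  selfc : ∀ u, (∀ k ∈ K, Commute u k) → u = 1 ∨ u = t
  perf : commutator ↥K = ⊤
  quot : ∃ f : ↥K →* Cfsg.Spor.Fi22, Function.Surjective f ∧
    (∀ k : ↥K, f k = 1 ↔ ((k : G) = 1 ∨ (k : G) = t)) ∧
    (∀ α : MulAut Cfsg.Spor.Fi22, ∃ u, Commute u t ∧
      ∀ k k' : ↥K, (k' : G) = u * k * u⁻¹ → f k' = α (f k)) ∧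
    ∃ (F : Type) (_ : Field F) (_ : Fintype F), H47.TwoU62.Hyp F (f ⟨e, eK⟩)

variable {G : Type u} [Group G] [Finite G] {z : G} {Q : Subgroup G}

/-- a line swap -/
theorem exists_swap_te (S : LSetup z Q) {t e : G} (H : Hyp S t e) (b : G) (hbt : b * t = t * b)
    (hbe : b * e * b⁻¹ = t * e) : ∃ g, g * t * g⁻¹ = e ∧ g * e * g⁻¹ = t := by
  obtain ⟨c, hc, hct⟩ := S.conj_of_cls H.htQ H.heQ (by rw [H.hv, H.hve]) (Or.inl H.hv)
  obtain ⟨u, hu1, hu2, -, -⟩ := partner H.hve
  obtain ⟨q, hq, rfl⟩ := S.π_surj u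
  have hqe : q * e * q⁻¹ = e := by
    rw [← (S.comm_iff H.heQ hq).2 hu1, mul_inv_cancel_right]
  have hpol : pol (S.π (t * e)) (S.π q) = 0 ∧ pol (S.π t) (S.π q) = 1 ∨
      pol (S.π (t * e)) (S.π q) = 1 ∧ pol (S.π t) (S.π q) = 1 := by
    have h1 : ω₄ • S.π e = S.π (t * e) := by rw [H.he, H.π_te, mul_smul]
    rw [h1] at hu2
    refine Or.inr ⟨hu2, ?_⟩
    rw [S.π_mul t H.htQ e H.heQ, pol_symm, pol_add_right, pol_symm (S.π q) (S.π e), hu1,
      add_zero, pol_symm] at hu2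
    exact hu2
  have hqt : q * t * q⁻¹ = z * t := by
    have hp : pol (S.π t) (S.π q) = 1 := by rcases hpol with h | h <;> exact h.2
    have hcm := S.comm t H.htQ q hq
    rw [hp, Cfsg.Agent.H18.LFiFi22.zp_one] at hcm
    rw [hcm, S.le _ (mul_mem H.htQ hq), mul_assoc, mul_inv_cancel_right]
  have hz : ∀ y, y * z = z * y → y * (z * y) = z * (y * y) := fun y hy => by
    rw [← mul_assoc, hy, mul_assoc]
  -- the image of the partner
  have hπ : S.π (c * e * c⁻¹) = S.π t ∨ S.π (c * e * c⁻¹) = S.π (t * e) := by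
    obtain ⟨θ, hθ⟩ := S.ρ_semi c hc
    have hρ : S.ρ c (S.π t) = S.π e := by rw [← S.ρ_π c hc t H.htQ, hct]
    rw [S.ρ_π c hc e H.heQ, H.he, hθ.smul, hρ, H.he, ← mul_smul]
    cases θ
    · right; rw [H.π_te, show tw false ω₄ * ω₄ = ω₄ * ω₄ from rfl]
    · left; rw [show tw true ω₄ * ω₄ = 1 from by decide +kernel, one_smul]
  have hm := S.norm c hc e H.heQ
  -- corrected by an element of the core
  obtain ⟨c', hct', hce'⟩ : ∃ c', c' * t * c'⁻¹ = e ∧ (c' * e * c'⁻¹ = t ∨ c' * e * c'⁻¹ = t * e) := by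
    have fix : ∀ {x}, q * x * q⁻¹ = z * x → c * e * c⁻¹ = z * x →
        (q * c) * t * (q * c)⁻¹ = e ∧ (q * c) * e * (q * c)⁻¹ = x := by
      intro x hx hce
      refine ⟨?_, ?_⟩
      · rw [show q * c * t * (q * c)⁻¹ = q * (c * t * c⁻¹) * q⁻¹ by group, hct, hqe]
      · rw [show q * c * e * (q * c)⁻¹ = q * (c * e * c⁻¹) * q⁻¹ by group, hce,
          show q * (z * x) * q⁻¹ = q * z * x * q⁻¹ by group, S.le q hq,
          show z * q * x * q⁻¹ = z * (q * x * q⁻¹) by group, hx, ← mul_assoc, S.z_sq, one_mul]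
    rcases hπ with h | h
    · rcases S.π_eq H.htQ hm h.symm with h' | h'
      · exact ⟨c, hct, Or.inl h'⟩
      · obtain ⟨f1, f2⟩ := fix hqt h'
        exact ⟨_, f1, Or.inl f2⟩
    · rcases S.π_eq (mul_mem H.htQ H.heQ) hm h.symm with h' | h'
      · exact ⟨c, hct, Or.inr h'⟩
      · obtain ⟨f1, f2⟩ := fix (x := t * e) (by
          rw [show q * (t * e) * q⁻¹ = (q * t * q⁻¹) * (q * e * q⁻¹) by group, hqt, hqe, mul_assoc]) h'
        exact ⟨_, f1, Or.inr f2⟩
  rcases hce' with h | h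
  · exact ⟨c', hct', h⟩
  · refine ⟨c' * b, ?_, ?_⟩
    · rw [show c' * b * t * (c' * b)⁻¹ = c' * (b * t * b⁻¹) * c'⁻¹ by group, hbt,
        mul_inv_cancel_right, hct']
    · rw [show c' * b * e * (c' * b)⁻¹ = c' * (b * e * b⁻¹) * c'⁻¹ by group, hbe,
        show c' * (t * e) * c'⁻¹ = (c' * t * c'⁻¹) * (c' * e * c'⁻¹) by group, hct', h, H.te,
        ← mul_assoc, H.ee, one_mul]

set_option maxHeartbeats 1000000 in
/-- the facts -/
theorem exists_facts (S : LSetup z Q)
    (pair : ∀ g : G, g * z * g⁻¹ ∈ Q → g * z * g⁻¹ ≠ z → H92.PairSetting Q z g) :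
    ∃ (t e : G) (K : Subgroup G), Facts t e K ∧ Hyp S t e ∧ ¬ IsConj z t := by
  classical
  obtain ⟨t, e0, L0, h60, hnc, ht1⟩ := H49.USix.exists_four S pair
  obtain ⟨e, H, h6⟩ := exists_hyp S pair L0.htQ L0.heQ L0.tt L0.ee L0.hv L0.he h60 L0.htQ L0.tt L0.hv
  have hti : orderOf t = 2 := orderOf_eq_prime (by rw [pow_two]; exact H.tt) ht1
  haveI hn : ((zpowers t).subgroupOf (CT t)).Normal := by
    refine ⟨fun x hx y => ?_⟩
    rw [mem_subgroupOf] at hx ⊢
    push_cast
    rcases (mem_zpowers_two H.tt).1 hx with h | h <;> rw [h]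
    · rw [mul_one, mul_inv_cancel]; exact one_mem _
    · rw [mem_CT.1 y.2, mul_inv_cancel_right]; exact mem_zpowers t
  obtain ⟨hqK, hidx, ⟨htc, htK⟩, ⟨eAut⟩⟩ := top S pair L0.htQ L0.heQ L0.tt L0.ee L0.hv L0.he h60
    L0.htQ hti hnc
  set K0 := Cfsg.generalizedFittingSubgroup ↥(CT t) with hK0
  obtain ⟨f, hf1, hf2⟩ := H.exists_sign
  obtain ⟨b, hfb, hbe⟩ := H.exists_swap hf1 hf2
  obtain ⟨a, haQ, ha2, hat, hae, -, -⟩ := H.exists_alpha
  have hfa : f ⟨a, mem_CT.2 hat⟩ = -1 := by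
    refine hf2 _ haQ ?_
    rcases zmod2_cases (pol (ω₄ • S.π t) (S.π a)) with h0 | h1
    · exfalso
      rw [← H.he] at h0
      rw [← (S.comm_iff H.heQ haQ).2 h0, mul_inv_cancel_right] at hae
      exact S.z_ne (mul_eq_right.1 hae.symm)
    · exact h1
  -- the kernel of the sign is the perfect part
  have hfK : ∀ x : ↥(CT t), x ∈ K0 ↔ f x = 1 := by
    have hle : K0 ≤ f.ker := fun x hx => by
      have := H33.AutLFi.hom_eq_one hqK.1 (f.comp K0.subtype) (fun p q => mul_comm _ _) ⟨x, hx⟩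
      exact this
    have hne : f.ker ≠ ⊤ := fun h => by
      have := MonoidHom.mem_ker.1 (h ▸ mem_top b : b ∈ f.ker)
      rw [hfb] at this
      exact absurd this (by decide)
    intro x
    refine ⟨fun hx => MonoidHom.mem_ker.1 (hle hx), fun hx => ?_⟩
    by_contra hxK
    refine hne (eq_top_iff.2 fun y _ => ?_)
    by_cases hy : y ∈ K0
    · exact hle hy
    · have h1 : x⁻¹ * y ∈ K0 := (mul_mem_iff_of_index_two hidx).2 (by rw [inv_mem_iff]; tauto)
      have := mul_mem (MonoidHom.mem_ker.2 hx) (hle h1)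
      rwa [mul_inv_cancel_left] at this
  set K : Subgroup G := K0.map (CT t).subtype with hK
  have memK : ∀ {x : G} (hx : x * t = t * x), x ∈ K ↔ f ⟨x, mem_CT.2 hx⟩ = 1 := by
    intro x hx
    rw [← hfK]
    refine ⟨?_, fun h => ⟨_, h, rfl⟩⟩
    rintro ⟨y, hy, rfl⟩
    exact hy
  have eK : e ∈ K := (memK H.te.symm).2 (hf1 _ rfl)
  have comm : ∀ k ∈ K, Commute k t := by
    rintro _ ⟨y, -, rfl⟩
    exact mem_CT.1 y.2
  -- the third member
  have hab : a * (t * e) * a⁻¹ = z * (t * e) := by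
    calc a * (t * e) * a⁻¹ = (a * t) * e * a⁻¹ := by group
      _ = t * (a * e * a⁻¹) := by rw [hat]; group
      _ = z * (t * e) := by rw [hae, ← mul_assoc, H.tz, mul_assoc]
  have hke : a * (b : G) * e * (a * (b : G))⁻¹ = z * (t * e) := by
    rw [show a * (b : G) * e * (a * (b : G))⁻¹ = a * ((b : G) * e * (b : G)⁻¹) * a⁻¹ by group, hbe, hab]
  have habK : a * (b : G) ∈ K := by
    have hc : (a * (b : G)) * t = t * (a * (b : G)) :=
      ((show Commute a t from hat).mul_left (show Commute (b : G) t from mem_CT.1 b.2)).eq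
    rw [memK hc, show (⟨a * (b : G), mem_CT.2 hc⟩ : ↥(CT t)) = ⟨a, mem_CT.2 hat⟩ * b from rfl,
      map_mul, hfa, hfb]
    rfl
  have hez : Commute e z := H.ez
  have hee' : e * (z * (t * e)) = z * t := by
    rw [← mul_assoc, hez.eq, mul_assoc, ← mul_assoc e t e, ← H.te, mul_assoc t e e, H.ee, mul_one]
  have hte' : t * e * (z * (t * e)) = z := by
    rw [mul_assoc, hee', ← mul_assoc, H.tz, mul_assoc, H.tt, mul_one]
  have clsconj : ∀ {x}, x ∈ Q → cls (S.π x) = 2 → IsConj t x := fun {x} hx hc => by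
    obtain ⟨c, -, e1⟩ := S.conj_of_cls H.htQ hx (by rw [H.hv, hc]) (Or.inl H.hv)
    exact isConj_iff.2 ⟨c, e1⟩
  -- the map onto Fi22
  haveI hsFi : IsSimpleGroup Cfsg.Spor.Fi22 := Cfsg.Agent.H45.Fi22Top.isSimple
  haveI : Finite Cfsg.Spor.Fi22 := Cfsg.Agent.H45.Fi22Top.order_facts.1
  have hcFi : center Cfsg.Spor.Fi22 = ⊥ := H93.Exist.center22
  have hTK : (zpowers t).subgroupOf (CT t) ≤ K0 := by
    intro x hx
    rcases (mem_zpowers_two H.tt).1 (mem_subgroupOf.1 hx) with h | h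
    · rw [show x = 1 from Subtype.ext h]; exact one_mem _
    · rw [show x = ⟨t, htc⟩ from Subtype.ext h]; exact htK
  obtain ⟨g, hgs, hgk, hgaut, hgself⟩ := H33.AutLFi.quot_facts hTK hidx hsFi hcFi
    Cfsg.Agent.H46.Fi22Out.out_card eAut
  let toK0 : ↥K →* ↥K0 := ((K0.equivMapOfInjective _ (CT t).subtype_injective).symm).toMonoidHom
  have toK0_val : ∀ k : ↥K, ((toK0 k : ↥(CT t)) : G) = k := fun k =>
    congrArg Subtype.val ((K0.equivMapOfInjective _ (CT t).subtype_injective).apply_symm_apply k)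
  set f' : ↥K →* Cfsg.Spor.Fi22 := g.comp toK0 with hf'
  have hker : ∀ k : ↥K, f' k = 1 ↔ ((k : G) = 1 ∨ (k : G) = t) := fun k => by
    show g (toK0 k) = 1 ↔ _
    rw [hgk, mem_subgroupOf, mem_zpowers_two H.tt, toK0_val]
  have hsurj : Function.Surjective f' := hgs.comp
    (K0.equivMapOfInjective _ (CT t).subtype_injective).symm.surjective
  refine ⟨t, e, K, ⟨H.tt, H.ee, H.te, ht1, comm, ⟨_, htK, rfl⟩, eK, clsconj H.heQ H.hve,
    clsconj (mul_mem H.htQ H.heQ) H.cls_te, fun u v hu hv nu nv => ?_, fun u hu hue => ?_,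
    exists_swap_te S H b (mem_CT.1 b.2) hbe, ⟨_, habK, ?_, ?_, ?_, ?_, ?_⟩, fun u hu => ?_, ?_,
    f', hsurj, hker, fun α => ?_, ?_⟩, H, hnc⟩
  · rw [memK hu] at nu
    rw [memK hv] at nv
    rw [memK (hu.mul_left hv).eq,
      show (⟨u * v, mem_CT.2 (hu.mul_left hv).eq⟩ : ↥(CT t)) = ⟨u, mem_CT.2 hu⟩ * ⟨v, mem_CT.2 hv⟩
        from rfl, map_mul]
    rcases Int.units_eq_one_or (f ⟨u, mem_CT.2 hu⟩) with h | h
    · exact absurd h nu
    rcases Int.units_eq_one_or (f ⟨v, mem_CT.2 hv⟩) with h' | h'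
    · exact absurd h' nv
    rw [h, h']; rfl
  · exact (memK hu).2 (hf1 _ hue)
  · rw [hke]
    exact hez.mul_right ((show Commute e t from H.te.symm).mul_right (Commute.refl e))
  · rw [hke]
    intro h
    have h1 : z * t = 1 := by rw [← hee', h, H.ee]
    exact hnc (by rw [show z = t by rw [eq_inv_of_mul_eq_one_left h1,
      inv_eq_of_mul_eq_one_left H.tt]])
  · rw [hke]
    exact fun h => S.z_ne (mul_eq_right.1 h)
  · rw [hke, hee']
    exact clsconj (mul_mem S.hzQ H.htQ) (by rw [S.π_zmul H.htQ, H.hv])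
  · rw [hke, hte']
    exact fun h => hnc h.symm
  · have hut : u * t = t * u := (hu t ⟨_, htK, rfl⟩).eq
    have hmem := hgself ⟨u, mem_CT.2 hut⟩ fun k hk => by
      refine mem_subgroupOf.2 ?_
      push_cast
      rw [(hu k ⟨_, hk, rfl⟩).eq, mul_inv_cancel_right, mul_inv_cancel]
      exact one_mem _
    exact (mem_zpowers_two H.tt).1 (mem_subgroupOf.1 hmem)
  · haveI := hqK
    have he := hqK.1.commutator_eq_top
    rw [eq_top_iff]
    intro x _
    have h1 : toK0 x ∈ commutator ↥K0 := he ▸ mem_top _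
    have h2 := mem_map_of_mem (K0.equivMapOfInjective _ (CT t).subtype_injective).toMonoidHom h1
    rw [commutator_def, map_commutator] at h2
    rw [commutator_def]
    have hmono : ⁅map (K0.equivMapOfInjective _ (CT t).subtype_injective).toMonoidHom ⊤,
        map (K0.equivMapOfInjective _ (CT t).subtype_injective).toMonoidHom ⊤⁆ ≤
        ⁅(⊤ : Subgroup ↥K), ⊤⁆ := commutator_mono le_top le_top
    refine hmono ?_
    have hx : (K0.equivMapOfInjective _ (CT t).subtype_injective).toMonoidHom (toK0 x) = x :=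
      (K0.equivMapOfInjective _ (CT t).subtype_injective).apply_symm_apply x
    rwa [hx] at h2
  · obtain ⟨c, hc⟩ := hgaut α
    refine ⟨c, mem_CT.1 c.2, fun k k' h => hc _ _ (Subtype.ext ?_)⟩
    push_cast
    rw [toK0_val, toK0_val, h]
  · obtain ⟨F, i1, i2, hF, p, hp, hpker⟩ := h6.quot
    refine ⟨F, i1, i2, ?_⟩
    let j : ↥(CE t e) →* ↥K := MonoidHom.mk'
      (fun x => ⟨x, (memK (mem_CE.1 x.2).1).2 (hf1 _ (mem_CE.1 x.2).2)⟩) fun x y => rfl
    let d := f' ⟨e, eK⟩
    let ψ : ↥(CE t e) →* ↥(centralizer ({d} : Set Cfsg.Spor.Fi22)) := MonoidHom.mk'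
      (fun x => ⟨f' (j x), mem_centralizer_singleton_iff.2 (by
        show f' (j x) * f' ⟨e, eK⟩ = f' ⟨e, eK⟩ * f' (j x)
        rw [← map_mul, ← map_mul]
        exact congrArg f' (Subtype.ext (mem_CE.1 x.2).2))⟩)
      fun x y => Subtype.ext ((congrArg f' (map_mul j x y)).trans (map_mul f' _ _))
    have fib : ∀ k k' : ↥K, f' k = f' k' → (k : G) = k' ∨ (k : G) = k' * t := fun k k' h => by
      have h1 : f' (k'⁻¹ * k) = 1 := by rw [map_mul, map_inv, h, inv_mul_cancel]
      rcases (hker _).1 h1 with h2 | h2 <;> push_cast at h2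
      · exact Or.inl (inv_mul_eq_one.1 h2).symm
      · exact Or.inr (inv_mul_eq_iff_eq_mul.1 h2)
    have hψ : Function.Surjective ψ := by
      rintro ⟨y, hy⟩
      obtain ⟨k, rfl⟩ := hsurj y
      have hk := mem_centralizer_singleton_iff.1 hy
      change f' k * f' ⟨e, eK⟩ = f' ⟨e, eK⟩ * f' k at hk
      rw [← map_mul, ← map_mul] at hk
      have hkt := comm _ k.2
      have hke' : Commute (k : G) e := by
        rcases fib _ _ hk with h | h <;> push_cast at h
        · exact h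
        · exfalso
          have h1 : (k : G) * e * (k : G)⁻¹ = t * e := by
            rw [h, mul_assoc e _ t, hkt.eq, ← mul_assoc, ← H.te, mul_inv_cancel_right]
          have h2 : ((b⁻¹ * ⟨(k : G), mem_CT.2 hkt⟩ : ↥(CT t)) : G) * e =
              e * (b⁻¹ * ⟨(k : G), mem_CT.2 hkt⟩ : ↥(CT t)) := by
            rw [← mul_inv_eq_iff_eq_mul]
            push_cast
            calc (b : G)⁻¹ * k * e * ((b : G)⁻¹ * k)⁻¹
                = (b : G)⁻¹ * ((k : G) * e * (k : G)⁻¹) * b := by group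
              _ = (b : G)⁻¹ * ((b : G) * e * (b : G)⁻¹) * b := by rw [h1, hbe]
              _ = e := by group
          have h3 := hf1 _ h2
          rw [map_mul, map_inv, hfb, (memK hkt).1 k.2] at h3
          exact absurd h3 (by decide)
      exact ⟨⟨k, mem_CE.2 ⟨hkt, hke'⟩⟩, rfl⟩
    have hle : ψ.ker ≤ p.ker := by
      intro x hx
      rw [MonoidHom.mem_ker, hpker]
      rcases (hker (j x)).1 (congrArg Subtype.val hx) with h | h
      · exact Or.inl h
      · exact Or.inr (Or.inl h)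
    let π := ψ.liftOfSurjective hψ ⟨p, hle⟩
    have hπ : ∀ x, π (ψ x) = p x := fun x =>
      MonoidHom.liftOfRightInverse_comp_apply _ _ _ _ x
    have hd2 : d * d = 1 := by
      show f' _ * f' _ = 1
      rw [← map_mul, show (⟨e, eK⟩ : ↥K) * ⟨e, eK⟩ = 1 from Subtype.ext H.ee, map_one]
    have hde : e ≠ 1 := fun h => by
      have := H.hve
      rw [h, S.π_one, ((facts (0 : Vec)).2.1).2 rfl] at this
      exact absurd this (by norm_num)
    refine ⟨hF, fun h => ?_, ⟨π, fun y => ?_, fun y hy => ?_, Subtype.ext hd2, fun y => ?_⟩, ?_, ?_⟩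
    · rcases (hker ⟨e, eK⟩).1 h with h' | h'
      · exact hde h'
      · have h'' : e = t := h'
        have hne := H.he
        rw [h''] at hne
        have hv := H.hv
        have h0 : (ω₄ * ω₄) • S.π t = 0 := by rw [omega_sq_smul, ← hne]; exact H43.LFi.vec_add_self _
        have := H.cls_te
        rw [H.π_te, h0, ((facts (0 : Vec)).2.1).2 rfl] at this
        exact absurd this (by norm_num)
    · obtain ⟨x, rfl⟩ := hp y
      exact ⟨ψ x, hπ x⟩
    · obtain ⟨x, rfl⟩ := hψ y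
      rw [hπ, hpker] at hy
      rcases hy with h | h | h | h
      · exact Or.inl (Subtype.ext (show f' (j x) = 1 from (hker _).2 (Or.inl h)))
      · exact Or.inl (Subtype.ext (show f' (j x) = 1 from (hker _).2 (Or.inr h)))
      · exact Or.inr (Subtype.ext (show f' (j x) = f' ⟨e, eK⟩ from congrArg f' (Subtype.ext h)))
      · refine Or.inr (Subtype.ext (show f' (j x) = f' ⟨e, eK⟩ from ?_))
        have htK' : t ∈ K := ⟨_, htK, rfl⟩
        have h1 : f' ⟨t, htK'⟩ = 1 := (hker ⟨t, htK'⟩).2 (Or.inr rfl)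
        rw [show j x = ⟨t, htK'⟩ * ⟨e, eK⟩ from Subtype.ext h, map_mul, h1, one_mul]
    · exact Subtype.ext (mem_centralizer_singleton_iff.1 y.2).symm
    · rw [eq_top_iff]
      intro y _
      obtain ⟨x, rfl⟩ := hψ y
      have h1 := mem_map_of_mem ψ (h6.qs.1.commutator_eq_top ▸ mem_top x : x ∈ commutator _)
      rw [commutator_def, map_commutator] at h1
      rw [commutator_def]
      exact commutator_mono le_top le_top h1
    · refine ⟨f' ⟨_, habK⟩, ?_, ?_⟩
      · rw [← map_inv, ← map_mul, ← map_mul]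
        show f' ⟨e, eK⟩ * f' _ = f' _ * f' ⟨e, eK⟩
        rw [← map_mul, ← map_mul]
        refine congrArg f' (Subtype.ext ?_)
        push_cast
        rw [hke]
        exact (hez.mul_right ((show Commute e t from H.te.symm).mul_right (Commute.refl e))).eq
      · rw [← map_inv, ← map_mul, ← map_mul]
        intro h
        rcases fib _ _ h with h' | h' <;> push_cast at h' <;> rw [hke] at h'
        · have h1 : z * t = 1 := by rw [← hee', h', H.ee]
          exact hnc (by rw [show z = t by rw [eq_inv_of_mul_eq_one_left h1,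
            inv_eq_of_mul_eq_one_left H.tt]])
        · rw [H.te] at h'
          exact S.z_ne (mul_eq_right.1 h')

end Cfsg.Agent.H41.Fi24Rec
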