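import Cfsg.Agent.H41.Fi24Rec.Level24
import Cfsg.Agent.H41.LFi.Pair

/-!
From large Fischer type: the local facts and the injective map of the commutator subgroup of the presented Fi24.
-/

set_option autoImplicit false

namespace Cfsg.Agent.H41.Fi24Rec

open Cfsg.Spor Cfsg.Agent.H93.Exist Cfsg.Agent.H41.SUSix Cfsg.Agent.H41.LFi Cfsg.Agent.H18.LFiFi22

universe u

/-- large Fischer type gives the setup, the facts and the map -/
theorem exists_embedding {G : Type u} [Group G] [Finite G] {z : G}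
    (Q : Subgroup (Subgroup.centralizer ({z} : Set G))) [Q.Normal]
    (hF : Cfsg.IsOfLargeFischerTypeAt z Q) :
    ∃ (S : LSetup z (Q.map (Subgroup.centralizer ({z} : Set G)).subtype)) (t e : G) (K : Subgroup G)
      (f : ↥(commutator Fi24) →* G),
      (∀ g : G, g * z * g⁻¹ ∈ Q.map (Subgroup.centralizer ({z} : Set G)).subtype → g * z * g⁻¹ ≠ z →
        H92.PairSetting (Q.map (Subgroup.centralizer ({z} : Set G)).subtype) z g) ∧
      Facts t e K ∧ Hyp S t e ∧ ¬ IsConj z t ∧ Function.Injective f ∧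
      (∀ a1 : ↥(commutator Fi24), (a1 : Fi24) = gen24 .a * gen24 .l → f a1 = t) ∧
      Subgroup.centralizer ({t} : Set G) ≤ f.range := by
  obtain ⟨S⟩ := setup_of Q hF
  have pair : ∀ g : G, g * z * g⁻¹ ∈ Q.map (Subgroup.centralizer ({z} : Set G)).subtype →
      g * z * g⁻¹ ≠ z → H92.PairSetting (Q.map (Subgroup.centralizer ({z} : Set G)).subtype) z g :=
    fun g hs hne => pair_of Q hF hs hne
  obtain ⟨t, e, K, F, H, hzt⟩ := exists_facts S pair
  obtain ⟨f, hf, ht, hC⟩ := exists_level24 F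
  exact ⟨S, t, e, K, f, pair, F, H, hzt, hf, ht, hC⟩

/-- the hypotheses of the recognition theorem give large Fischer type -/
theorem largeFischer_of {G : Type u} [Group G] [Finite G] {z : G} (hz : orderOf z = 2)
    {Q N M : Subgroup (Subgroup.centralizer ({z} : Set G))} [Q.Normal] [N.Normal] [M.Normal]
    (hF : Cfsg.generalizedFittingSubgroup (Subgroup.centralizer ({z} : Set G)) = Q)
    (hQ : Cfsg.IsExtraspecial 2 Q) (hcard : Nat.card Q = 2 ^ 13) (hQN : Q ≤ N) (hNM : N ≤ M)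
    (hN : Nat.card N = 3 * Nat.card Q) (K : Type) [Field K] [Fintype K] (hK : Fintype.card K = 9)
    (e : M ⧸ N.subgroupOf M ≃* Cfsg.PSU 4 K 3) (hM : M.index = 2)
    (hnwc : ∃ g : G, (∃ hq : g * z * g⁻¹ ∈ Subgroup.centralizer ({z} : Set G),
      (⟨g * z * g⁻¹, hq⟩ : Subgroup.centralizer ({z} : Set G)) ∈ Q) ∧ g * z * g⁻¹ ≠ z) :
    Cfsg.IsOfLargeFischerTypeAt z Q :=
  ⟨⟨hz, hF, hQ, hcard, hnwc⟩, N, M, inferInstance, inferInstance, hQN, hNM, hN,
    ⟨K, inferInstance, inferInstance, hK, ⟨e⟩⟩, hM⟩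

end Cfsg.Agent.H41.Fi24Rec
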