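import Cfsg.Agent.H41.Fi24Rec.Local
import Cfsg.Agent.H41.Fi24Rec.Letters
import Cfsg.Agent.H2.FiCentral.Main
import Cfsg.Agent.H80.Fischer.Perfect
import Cfsg.Agent.H93.Lift22

/-!
The centraliser of a member of the presented Fi23 is the quasisimple part of the centraliser of a
non-central involution of the core, the base members going to the two involutions of the line.
-/

set_option autoImplicit false
set_option maxRecDepth 8000

namespace Cfsg.Agent.H41.Fi24Rec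

open Cfsg.Spor Cfsg.Agent.H93 Cfsg.Agent.H93.Exist
open Cfsg.Agent.H2.FiCentral (class_equiv exists_cover Cover)
open Cfsg.Agent.H61.Glue (exists_lifted)

attribute [local instance] finG23

universe u

/-- an isomorphism of the centraliser of the first letter onto the perfect part -/
structure Theta {G : Type u} [Group G] (t e : G) (K : Subgroup G) (θ : G23 → G) : Prop where
  mul : ∀ {x y}, Commute x pa → Commute y pa → θ (x * y) = θ x * θ y
  inj : ∀ {x y}, Commute x pa → Commute y pa → θ x = θ y → x = y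
  mem : ∀ {x}, Commute x pa → θ x ∈ K
  surj : ∀ k ∈ K, ∃ x, Commute x pa ∧ θ x = k
  ta : θ pa = t
  tb : θ pb = e
  sec : ∀ v ∈ nb D23 pa, ∃ k ∈ K, θ v = k * e * k⁻¹

theorem mem_nbSub_pa {g : G23} : g ∈ nbSub D23 pa ↔ Commute g pa := by
  rw [← hG23.cent _ pa_mem, Subgroup.mem_centralizer_singleton_iff]
  rfl

variable {G : Type u} [Group G] [Finite G] {t e : G} {K : Subgroup G}

set_option maxHeartbeats 1000000 in
/-- the isomorphism -/
theorem exists_theta (F : Facts t e K) : ∃ θ, Theta t e K θ := by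
  classical
  obtain ⟨f, hf, hker, -, Fd, iFd, iFdF, hyp⟩ := F.quot
  haveI : Finite Fi22 := Cfsg.Agent.H45.Fi22Top.order_facts.1
  set d := f ⟨e, F.eK⟩ with hd
  have hgeo := hyp.geo
  have hclass := hyp.tt_class
  obtain ⟨p, hp⟩ := H70.FiTwentyTwo.exists_config hgeo (mem_conjugatesOf_self (a := d))
  obtain ⟨φ, hφ⟩ := H70.FiTwentyTwo.config_iso hgeo hp
  have htype : Cfsg.IsOfTypeM22 Fi22 (conjugatesOf d) := by
    let ψ : G22 ≃* Fi22 := φ
    have h := type22_transfer ψ type22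
    have e0 : ψ (Cfsg.Agent.H87.Fi22.Transp.t : G22) = p 0 := hφ .a
    have himg : ψ '' conjugatesOf (Cfsg.Agent.H87.Fi22.Transp.t : G22) = conjugatesOf d := by
      rw [show conjugatesOf d = conjugatesOf (p 0) from IsConj.conjugatesOf_eq (hp.mem 0), ← e0]
      ext y
      constructor
      · rintro ⟨x, hx, rfl⟩
        exact MonoidHom.map_isConj ψ.toMonoidHom hx
      · intro hy
        refine ⟨ψ.symm y, ?_, ψ.apply_symm_apply y⟩
        obtain ⟨c, hc⟩ := isConj_iff.1 (show IsConj (ψ Cfsg.Agent.H87.Fi22.Transp.t) y from hy)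
        exact isConj_iff.2 ⟨ψ.symm c, ψ.injective (by simp [hc])⟩
    rwa [himg] at h
  obtain ⟨F', iF', iF'F, data, K', iK', iK'F, hK', hcent, hext⟩ := cent22 hclass htype
  let d' : ↥K := ⟨t, F.tK⟩
  have hd' : ∀ x : ↥K, Commute d' x := fun x => Subtype.ext (F.comm _ x.2).symm.eq
  have hkd : ∀ x : ↥K, f x = 1 → x = 1 ∨ x = d' := fun x hx =>
    ((hker x).1 hx).imp Subtype.ext Subtype.ext
  have hfd : f d' = 1 := (hker d').2 (Or.inr rfl)
  have hsq : d' * d' = 1 := Subtype.ext F.tt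
  have hne : d' ≠ 1 := fun q => F.t1 (congrArg Subtype.val q)
  have nsq : ∀ x : ↥K, x * x ≠ d' := by
    intro x hx
    obtain ⟨y, hy, hy2⟩ := data.lift_invol hK' hext f hf hkd hsq hd' (x := f x)
      (by rw [← map_mul, hx, hfd])
    rcases hkd (y⁻¹ * x) (by rw [map_mul, map_inv, hy, inv_mul_cancel]) with q | q
    · rw [← inv_mul_eq_one.mp q, hy2] at hx
      exact hne hx.symm
    · rw [inv_mul_eq_iff_eq_mul] at q
      rw [q, show y * d' * (y * d') = y * (d' * y) * d' by group, (hd' y).eq,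
        show y * (y * d') * d' = (y * y) * (d' * d') by group, hy2, hsq, one_mul] at hx
      exact hne hx.symm
  have hperfC : ∀ c ∈ conjugatesOf d, commutator ↥(Subgroup.centralizer ({c} : Set Fi22)) = ⊤ :=
    fun c hc => (Cfsg.Agent.H80.Fischer.cent22_facts hgeo hc).1.commutator_eq_top
  have D : Dbl f d' (conjugatesOf d) F' K' :=
    { data := data, hK := hK', cent := hcent, ext := hext, perfC := hperfC, perf := F.perf
      surj := hf, ker := hkd, map_d := hfd, cen := hd', sq := hsq, ne := hne, nsq := nsq }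
  let e' : ↥K := ⟨e, F.eK⟩
  obtain ⟨σ, hσ, hσe⟩ : ∃ σ, Sec f (conjugatesOf d) σ ∧ σ d = e' := by
    obtain ⟨σ, hσ⟩ := D.exists_sec
    rcases D.eq_or (x := σ d) (y := e') (hσ.img d mem_conjugatesOf_self) with q | q
    · exact ⟨σ, hσ, q.symm⟩
    · exact ⟨_, hσ.flip D, q.symm⟩
  obtain ⟨q, Lq, hqσ⟩ := exists_cover D hgeo hσ
  obtain ⟨q0, L0⟩ := exists_lifted hG23 hM23 pa_mem
  let A0 : ↥(nbSub D23 pa) := ⟨pa, hG23.self _ pa_mem⟩
  have cA0 : ∀ g, Commute A0 g := fun g => Subtype.ext (nbSub_commute g.2).eq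
  have L0' : Cover A0 q0 := by
    refine ⟨cA0, Subtype.ext (tt23.sq _ pa_mem),
      fun q => hM23.core.ne_one _ pa_mem (congrArg Subtype.val q),
      L0.rels, L0.valR, L0.valZ, Subtype.ext L0.valM, L0.gen hG23 pa_mem, ?_⟩
    obtain ⟨φ', hφ'⟩ := L0.iso
    refine ⟨φ'.symm.toMonoidHom.comp (QuotientGroup.mk' _), fun x => ?_, fun g hg => ?_⟩
    · show φ'.symm (QuotientGroup.mk (q0 (H70.FiTwentyTwo.gIx x))) = _
      rw [← hφ', φ'.symm_apply_apply]
    · have h1 := (QuotientGroup.eq_one_iff g).mp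
        (φ'.symm.injective (hg.trans (map_one φ'.symm).symm))
      exact (hG23.two _ pa_mem g h1).imp Subtype.ext Subtype.ext
  obtain ⟨Ψ, hΨ, hΨA⟩ := L0'.equiv Lq
  have sec : ∀ v (hv : v ∈ nb D23 pa),
      ∃ k : ↥K, Ψ ⟨v, Subgroup.subset_closure hv⟩ = k * e' * k⁻¹ := by
    intro v hv
    obtain ⟨k, hk, ek⟩ := hG23.conj_nb pa_mem hv (L0.mem 0)
    have : (⟨v, Subgroup.subset_closure hv⟩ : ↥(nbSub D23 pa)) =
        ⟨k, mem_nbSub_pa.2 hk⟩ * q0 0 * (⟨k, mem_nbSub_pa.2 hk⟩ : ↥(nbSub D23 pa))⁻¹ :=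
      Subtype.ext ek.symm
    rw [this, map_mul, map_mul, map_inv, hΨ]
    obtain ⟨x, hx, ex⟩ := hqσ 0
    obtain ⟨m, rfl⟩ := isConj_iff.mp (show IsConj d x from hx)
    obtain ⟨l, rfl⟩ := hf m
    have hl := hσ.conj l d mem_conjugatesOf_self
    rw [hσe] at hl
    exact ⟨Ψ ⟨k, mem_nbSub_pa.2 hk⟩ * l, by rw [ex, ← hl]; group⟩
  obtain ⟨k1, hk1⟩ := sec pb hab
  let θ : G23 → G := fun g =>
    if h : Commute g pa then ((k1⁻¹ * Ψ ⟨g, mem_nbSub_pa.2 h⟩ * k1 : ↥K) : G) else 1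
  have hθ : ∀ {g} (h : Commute g pa), θ g = ((k1⁻¹ * Ψ ⟨g, mem_nbSub_pa.2 h⟩ * k1 : ↥K) : G) :=
    fun h => dif_pos h
  refine ⟨θ, fun {x y} hx hy => ?_, fun {x y} hx hy h => ?_, fun {x} hx => ?_, fun k hk => ?_,
    ?_, ?_, fun v hv => ?_⟩
  · rw [hθ hx, hθ hy, hθ (hx.mul_left hy), ← Subgroup.coe_mul]
    congr 1
    rw [show (⟨x * y, mem_nbSub_pa.2 (hx.mul_left hy)⟩ : ↥(nbSub D23 pa)) =
      ⟨x, mem_nbSub_pa.2 hx⟩ * ⟨y, mem_nbSub_pa.2 hy⟩ from rfl, map_mul]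
    group
  · rw [hθ hx, hθ hy] at h
    exact congrArg Subtype.val (Ψ.injective (mul_left_cancel (mul_right_cancel (Subtype.ext h))))
  · rw [hθ hx]; exact SetLike.coe_mem _
  · obtain ⟨w, hw⟩ := Ψ.surjective (k1 * ⟨k, hk⟩ * k1⁻¹)
    refine ⟨w, mem_nbSub_pa.1 w.2, ?_⟩
    rw [hθ (mem_nbSub_pa.1 w.2)]
    simp only [Subtype.coe_eta, hw]
    show ((k1⁻¹ * (k1 * ⟨k, hk⟩ * k1⁻¹) * k1 : ↥K) : G) = k
    simp [mul_assoc]
  · rw [hθ (Commute.refl pa)]
    show ((k1⁻¹ * Ψ A0 * k1 : ↥K) : G) = t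
    rw [hΨA, mul_assoc, (hd' k1).eq, inv_mul_cancel_left]
  · rw [hθ hab.2.2.symm]
    show ((k1⁻¹ * Ψ ⟨pb, Subgroup.subset_closure hab⟩ * k1 : ↥K) : G) = e
    rw [hk1]
    show ((k1⁻¹ * (k1 * e' * k1⁻¹) * k1 : ↥K) : G) = (e' : G)
    congr 1
    group
  · obtain ⟨k, hk⟩ := sec v hv
    refine ⟨((k1⁻¹ * k : ↥K) : G), SetLike.coe_mem _, ?_⟩
    rw [hθ hv.2.2.symm, hk]
    show _ = ((k1⁻¹ * k : ↥K) : G) * (e' : G) * ((k1⁻¹ * k : ↥K) : G)⁻¹
    rw [← Subgroup.coe_inv, ← Subgroup.coe_mul, ← Subgroup.coe_mul]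
    congr 1
    group

end Cfsg.Agent.H41.Fi24Rec
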